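import Cfsg.Agent.Lib.Linear.PGL2Inv

/-!
# The groups `PSL₂(q)` that are minimal non-CA groups
-/

set_option autoImplicit false
set_option linter.unusedSectionVars false

namespace Cfsg.Lib.MinCA

open Matrix MulAction Cfsg.Lib.Known Cfsg.Lib.Linear Subgroup

namespace PA

/-- Elementwise form of the CA property. -/
def Ca (X : Type*) [Group X] : Prop :=
  ∀ x y a b : X, x * y ≠ y * x → a * x = x * a → b * x = x * b → a * b = b * a

theorem ca_iff {X : Type*} [Group X] :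
    (∀ x : X, x ∉ center X → IsMulCommutative (centralizer ({x} : Set X))) ↔ Ca X := by
  constructor
  · intro h x y a b hxy ha hb
    have := h x fun hx => hxy (mem_center_iff.1 hx y).symm
    have h1 := this.is_comm.comm ⟨a, mem_centralizer_singleton_iff.2 ha⟩
      ⟨b, mem_centralizer_singleton_iff.2 hb⟩
    exact congrArg Subtype.val h1
  · intro h x hx
    rw [mem_center_iff, not_forall] at hx
    obtain ⟨y, hy⟩ := hx
    exact ⟨⟨fun a b => Subtype.ext (h x y a b (fun e => hy e.symm)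
      (mem_centralizer_singleton_iff.1 a.2) (mem_centralizer_singleton_iff.1 b.2))⟩⟩

theorem Ca.of_inj {X Y : Type*} [Group X] [Group Y] (h : Ca Y) (φ : X →* Y)
    (hφ : Function.Injective φ) : Ca X := fun x y a b hxy ha hb =>
  hφ (by
    rw [map_mul, map_mul]
    exact h (φ x) (φ y) _ _ (fun e => hxy (hφ (by rw [map_mul, map_mul, e])))
      (by rw [← map_mul, ha, map_mul]) (by rw [← map_mul, hb, map_mul]))

theorem Ca.of_equiv {X Y : Type*} [Group X] [Group Y] (h : Ca Y) (e : X ≃* Y) : Ca X :=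
  h.of_inj e.toMonoidHom e.injective

theorem Ca.sub {X : Type*} [Group X] (h : Ca X) (H : Subgroup X) : Ca H :=
  h.of_inj H.subtype H.subtype_injective

theorem ca_cyclic {X : Type*} [Group X] (h : IsCyclic X) : Ca X := fun _ _ a b _ _ _ =>
  (h.isMulCommutative).is_comm.comm a b

theorem ca_dihedral (n : ℕ) : Ca (DihedralGroup n) := by
  intro x y a b hxy ha hb
  rcases x with i | i <;> rcases y with j | j <;> rcases a with k | k <;> rcases b with l | l <;>
    simp only [DihedralGroup.r_mul_r, DihedralGroup.r_mul_sr, DihedralGroup.sr_mul_r,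
      DihedralGroup.sr_mul_sr, ne_eq, DihedralGroup.r.injEq, DihedralGroup.sr.injEq] at * <;>
    first
      | ring1
      | exact absurd (by ring1) hxy
      | exact absurd (by linear_combination ha) hxy
      | exact absurd (by linear_combination -ha) hxy
      | exact absurd (by linear_combination hb) hxy
      | exact absurd (by linear_combination -hb) hxy
      | linear_combination ha
      | linear_combination -ha
      | linear_combination hb
      | linear_combination -hb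
      | linear_combination ha - hb

theorem not_ca_S4 : ¬ Ca (Equiv.Perm (Fin 4)) := fun h =>
  absurd (h (Equiv.swap 0 1 * Equiv.swap 2 3) (Equiv.swap 0 2) (Equiv.swap 0 1)
    (Equiv.swap 0 2 * Equiv.swap 1 3) (by decide) (by decide) (by decide)) (by decide)

variable {F : Type*} [Field F]

theorem tor_comm {t a b : PGL2 F} (ht : t ≠ 1) (ha : a ∈ tor t) (hb : b ∈ tor t) : a * b = b * a := by
  obtain ⟨T, rfl⟩ := ProjGenLinGroup.mk_surjective t
  obtain ⟨A, rfl⟩ := ProjGenLinGroup.mk_surjective a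
  obtain ⟨B, rfl⟩ := ProjGenLinGroup.mk_surjective b
  rw [pk_mem_tor] at ha hb
  rw [Ne, pk_eq_one] at ht
  obtain ⟨u, v, h⟩ := exists_eq_of_comm ht ha
  refine (commute_pk.2 (Or.inl ?_)).eq
  rw [h, mul_add, add_mul, mul_smul_comm, mul_smul_comm, smul_mul_assoc, smul_mul_assoc, hb, mul_one,
    one_mul]

theorem mem_tor_two (h2 : (2 : F) = 0) {t a : PGL2 F} (h : a * t = t * a) : a ∈ tor t := by
  obtain ⟨T, rfl⟩ := ProjGenLinGroup.mk_surjective t
  obtain ⟨A, rfl⟩ := ProjGenLinGroup.mk_surjective a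
  rw [pk_mem_tor]
  rcases commute_pk.1 h with h | h
  · exact h
  · rw [h]
    ext i j
    rw [neg_apply]
    linear_combination -((T : M2 F) * A) i j * h2

theorem ca_pgl_two (h2 : (2 : F) = 0) : Ca (PGL2 F) := fun x y a b hxy ha hb =>
  tor_comm (t := x) (by rintro rfl; exact hxy (by simp)) (mem_tor_two h2 ha) (mem_tor_two h2 hb)

theorem ca_psl_two (h2 : (2 : F) = 0) : Ca (PSL2 F) :=
  (ca_pgl_two h2).of_inj _ ProjectiveSpecialLinearGroup.toPGL_injective

/-- A non-abelian centraliser contains a four-group through the element. -/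
theorem exists_klein (h2 : (2 : F) ≠ 0) {t a b : PGL2 F} (ht : t ≠ 1) (ha : a * t = t * a)
    (hb : b * t = t * b) (hab : a * b ≠ b * a) :
    ∃ s, (s = a ∨ s = b) ∧ orderOf s = 2 ∧ orderOf t = 2 ∧ orderOf (s * t) = 2 := by
  have key : ∀ s : PGL2 F, s * t = t * s → s ∉ tor t →
      orderOf s = 2 ∧ orderOf t = 2 ∧ orderOf (s * t) = 2 := fun s hs hs' => by
    refine ⟨orderOf_of_not_mem_tor h2 hs hs', ?_, orderOf_of_not_mem_tor h2 (t := t) ?_ fun h => hs' ?_⟩
    · by_contra h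
      refine hs' (mem_tor_of_commute h2 (self_mem_tor t) (fun e => h ?_) ht hs)
      exact orderOf_eq_prime (by rw [sq, e]) ht
    · exact Commute.mul_left hs (Commute.refl t)
    · simpa using (tor t).mul_mem h ((tor t).inv_mem (self_mem_tor t))
  by_cases h1 : a ∈ tor t
  · exact ⟨b, Or.inr rfl, key b hb fun h => hab (tor_comm ht h1 h)⟩
  · exact ⟨a, Or.inl rfl, key a ha h1⟩

theorem ca_stab (h2 : (2 : F) ≠ 0) (x : PL F) : Ca (stabilizer (PGL2 F) x) := by
  intro t y a b hxy ha hb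
  by_contra hab
  obtain ⟨s, hs, h1, h3, h4⟩ := exists_klein h2 (t := t.1) (a := a.1) (b := b.1)
    (fun e => hxy (by rw [show t = 1 from Subtype.ext e]; simp)) (congrArg Subtype.val ha)
    (congrArg Subtype.val hb) (fun e => hab (Subtype.ext e))
  refine not_fix_klein h2 h1 h3 h4 (x := x) ?_ t.2
  rcases hs with rfl | rfl
  · exact a.2
  · exact b.2

theorem ca_four : Ca (PSL2 (GaloisField 2 2)) :=
  ca_psl_two (by exact_mod_cast CharP.cast_eq_zero (GaloisField 2 2) 2)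

theorem card_four : Nat.card (GaloisField 2 2) = 4 := GaloisField.card 2 2 two_ne_zero

theorem ca_A5 : Ca (alternatingGroup (Fin 5)) := by
  obtain ⟨e⟩ := psl2_four_equiv card_four
  exact ca_four.of_equiv e.symm

theorem ca_A4 : Ca (alternatingGroup (Fin 4)) := by
  obtain ⟨H, ⟨e⟩⟩ := (psl2_exists_A4_iff (F := GaloisField 2 2)).2 (Or.inr (by rw [card_four]))
  exact (ca_four.sub H).of_equiv e.symm

variable [Finite F]

theorem ca_three (h : Nat.card F = 3) : Ca (PSL2 F) := by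
  obtain ⟨e⟩ := psl2_three_equiv h
  exact ca_A4.of_equiv e

theorem ca_five (h : Nat.card F = 5) : Ca (PSL2 F) := by
  obtain ⟨e⟩ := psl2_five_equiv h
  exact ca_A5.of_equiv e

theorem two_ne (h : Odd (Nat.card F)) : (2 : F) ≠ 0 := fun h2 => by
  rcases gcd_two_eq (F := F) with ⟨-, h3⟩ | ⟨h3, -⟩
  · exact (Nat.not_even_iff_odd.2 h) h3
  · rw [gcd_two_of_two_eq_zero h2] at h3
    exact absurd h3 (by decide)

theorem finite_PSL : Finite (PSL2 F) :=
  haveI := finite_PGL (ι := Fin 2) (F := F)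
  Finite.of_injective _ ProjectiveSpecialLinearGroup.toPGL_injective

theorem not_ca (ho : Odd (Nat.card F)) (h5 : 5 < Nat.card F) : ¬ Ca (PSL2 F) := by
  intro h
  have h2 := two_ne ho
  let g : SL2 F := slMat 0 (-1) 1 0 (by simp)
  let u : SL2 F := slMat 1 1 0 1 (by simp)
  have hinj := ProjectiveSpecialLinearGroup.toPGL_injective (n := Fin 2) (R := F)
  have hg1 : (g : PSL2 F) ≠ 1 := by
    rw [Ne, psl2_mk_eq_one_iff_isScal]
    rintro ⟨-, h1, -⟩
    simp [g, slMat] at h1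
  have hg2 : orderOf (g : PSL2 F) = 2 :=
    orderOf_eq_prime (psl2_sq_eq_one_iff.2 (Or.inl (by simp [g, tr2_slMat]))) hg1
  have ht : orderOf (ProjectiveSpecialLinearGroup.toPGL (g : PSL2 F)) = 2 := by
    rw [orderOf_injective _ hinj, hg2]
  obtain ⟨c, hc, hc'⟩ := exists_gen_tor h2 ht
  obtain ⟨_, ⟨s, rfl⟩, hs, hs'⟩ := exists_not_mem_tor_LL h2 ht
  have hc1 : c ∈ tor _ ⊓ LL F := hc ▸ mem_zpowers c
  obtain ⟨hc2, c, rfl⟩ := hc1
  have h3 := conj_eq_inv_of_not_mem_tor h2 ht hs hs' hc2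
  have h4 := h g u s c ?_ (hinj (by rw [map_mul, map_mul, hs.eq]))
    (hinj (by rw [map_mul, map_mul, (commute_of_mem_tor hc2).eq]))
  · rw [← map_mul, h4, map_mul, mul_inv_cancel_right, eq_inv_iff_mul_eq_one, ← sq] at h3
    have h6 := Nat.le_of_dvd two_pos (orderOf_dvd_of_pow_eq_one h3)
    obtain ⟨k, hk⟩ := ho
    omega
  · rw [← QuotientGroup.mk_mul, ← QuotientGroup.mk_mul, Ne, psl2_mk_eq_mk_iff]
    rintro (e | e)
    · have : ((u : M2 F) * g) 0 0 = ((g : M2 F) * u) 0 0 :=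
        congrArg (fun A : SL2 F => (A : M2 F) 0 0) e
      simp [g, u, slMat, Matrix.mul_apply, Fin.sum_univ_two] at this
    · have : ((u : M2 F) * g) 0 0 = -((g : M2 F) * u) 0 0 :=
        congrArg (fun A : SL2 F => (A : M2 F) 0 0) e
      simp [g, u, slMat, Matrix.mul_apply, Fin.sum_univ_two] at this

theorem card_lt {E : Type*} [Field E] [Finite E] (ho : Odd (Nat.card F)) (hE : Odd (Nat.card E))
    (h : Nat.card E < Nat.card F) : Nat.card (PSL2 E) < Nat.card (PSL2 F) := by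
  have h1 := card_PSL_two_of_odd ho
  have h2 := card_PSL_two_of_odd hE
  have h3 := two_le_card_field (F := E)
  have : Nat.card E * (Nat.card E - 1) * (Nat.card E + 1) <
      Nat.card F * (Nat.card F - 1) * (Nat.card F + 1) :=
    Nat.mul_lt_mul_of_le_of_lt (Nat.mul_le_mul h.le (by omega)) (by omega)
      (Nat.mul_pos (by omega) (by omega))
  change 2 * Nat.card (PSL2 F) = _ at h1
  change 2 * Nat.card (PSL2 E) = _ at h2
  omega

/-- A proper subfield with more than five elements gives a proper non-CA subgroup. -/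
theorem exists_sub (p : ℕ) [hp : Fact p.Prime] (hp2 : p ≠ 2) {k m : ℕ} (hk : k ≠ 0) (hm : 2 ≤ m)
    (hq : Nat.card F = p ^ (k * m)) (h5 : 5 < p ^ k) :
    ∃ H : Subgroup (PSL2 F), H ≠ ⊤ ∧ ¬ Ca H := by
  have hE := GaloisField.card p k hk
  have hpo := hp.out.odd_of_ne_two hp2
  obtain ⟨f⟩ := nonempty_ringHom_of_card_pow (F := F) (L := GaloisField p k) (m := m)
    (by rw [hE, hq, pow_mul])
  obtain ⟨H, ⟨e⟩⟩ := psl2_exists_subfield f
  have hEo : Odd (Nat.card (GaloisField p k)) := hE ▸ hpo.pow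
  refine ⟨H, ?_, fun h => not_ca hEo (hE ▸ h5) (h.of_equiv e.symm)⟩
  rintro rfl
  have h1 := card_lt (F := F) (hq ▸ hpo.pow) hEo (by
    rw [hE, hq]
    exact Nat.pow_lt_pow_right hp.out.one_lt (by nlinarith [Nat.pos_of_ne_zero hk]))
  rw [← Nat.card_congr e.toEquiv, card_top] at h1
  exact lt_irrefl _ h1

theorem exists_S4 (h4 : 4 ≤ Nat.card F) (h : Nat.card F ^ 2 % 16 = 1) :
    ∃ H : Subgroup (PSL2 F), H ≠ ⊤ ∧ ¬ Ca H := by
  obtain ⟨H, ⟨e⟩⟩ := psl2_exists_S4_iff.2 h
  refine ⟨H, ?_, fun h => not_ca_S4 (h.of_equiv e.symm)⟩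
  rintro rfl
  have := isSolvable_S4
  exact not_isSolvable_PSL2 h4 (isSolvable_of_equiv (topEquiv.symm.trans e))

theorem ca_proper (p : ℕ) [hp : Fact p.Prime] [CharP F p] (ho : Odd (Nat.card F))
    (h16 : Nat.card F ^ 2 % 16 ≠ 1)
    (hR : ∀ r m : ℕ, 2 ≤ m → Nat.card F = r ^ m → r = 3 ∨ r = 5)
    (H : Subgroup (PSL2 F)) (hH : H ≠ ⊤) : Ca H := by
  have h2 := two_ne ho
  have := finite_PSL (F := F)
  rcases dickson_psl2 p H with ⟨k, -, ⟨h, -⟩ | h⟩ | ⟨P, h⟩ | ⟨-, h | h | h⟩ | ⟨-, h⟩ | ⟨R, h⟩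
  · exact ca_cyclic h
  · obtain ⟨e⟩ := h
    exact (ca_dihedral k).of_equiv e
  · obtain ⟨x, hx⟩ := exists_fix_of_le_normalizer P
    refine (ca_stab h2 x).of_inj ((ProjectiveSpecialLinearGroup.toPGL.comp H.subtype).codRestrict _
      fun g => (hx g).1 (h g.2)) fun a b e => ?_
    exact Subtype.ext (ProjectiveSpecialLinearGroup.toPGL_injective (congrArg Subtype.val e))
  · obtain ⟨e⟩ := h
    exact ca_A4.of_equiv e
  · exact absurd (psl2_exists_S4_iff.1 ⟨H, h⟩) h16
  · obtain ⟨e⟩ := h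
    exact ca_A5.of_equiv e
  · obtain ⟨e⟩ := h
    exact ca_A5.of_equiv e
  · obtain ⟨m, hm, hq⟩ := (eq_top_or_sq_le h).resolve_left hH
    have hr := hR _ m hm hq
    rcases h with ⟨⟨e⟩⟩ | ⟨-, ⟨e⟩⟩
    · exfalso
      have h1 : Nat.card H ∣ Nat.card (PSL2 F) := card_subgroup_dvd_card H
      have h3 : 8 ∣ Nat.card H := by
        rw [Nat.card_congr e.toEquiv, card_PGL_two]
        rcases hr with hr | hr <;> rw [hr] <;> decide
      have h4 := card_PSL_two_of_odd ho
      change 2 * Nat.card (PSL2 F) = _ at h4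
      obtain ⟨c, hc⟩ := h3.trans h1
      obtain ⟨k, hk⟩ := ho
      rw [hc, hk] at h4
      rw [hk] at h16
      apply h16
      have h5 : (2 * k + 1) * (k * (k + 1)) = 4 * c := by
        rw [Nat.add_sub_cancel] at h4
        nlinarith
      have h6 : 4 ∣ k * (k + 1) :=
        (Nat.Coprime.pow_left 2 (Nat.coprime_two_left.2 ⟨k, rfl⟩)).dvd_of_dvd_mul_left ⟨c, h5⟩
      obtain ⟨d, hd⟩ := h6
      have : (2 * k + 1) ^ 2 = 16 * d + 1 := by nlinarith
      omega
    · rcases hr with hr | hr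
      · exact (ca_three hr).of_equiv e
      · exact (ca_five hr).of_equiv e

theorem pow_prime_mod {r p : ℕ} (hr : r = 3 ∨ r = 5) (ho : Odd p) : (r ^ p) ^ 2 % 16 ≠ 1 := by
  obtain ⟨k, rfl⟩ := ho
  have h : (r ^ 4) ^ k % 16 = 1 := by
    rcases hr with rfl | rfl <;> rw [Nat.pow_mod] <;> norm_num
  have e : (r ^ (2 * k + 1)) ^ 2 = (r ^ 4) ^ k * r ^ 2 := by ring
  rw [e, Nat.mul_mod, h]
  rcases hr with rfl | rfl <;> norm_num

theorem root_eq {l p r m : ℕ} (hl : l.Prime) (hp : p.Prime) (hm : 2 ≤ m) (h : l ^ p = r ^ m) :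
    r = l := by
  have h1 : r ∣ l ^ p := h ▸ dvd_pow_self r (by omega)
  obtain ⟨k, -, rfl⟩ := (Nat.dvd_prime_pow hl).1 h1
  rw [← pow_mul] at h
  have h2 := Nat.pow_right_injective hl.two_le h
  rcases hp.eq_one_or_self_of_dvd m ⟨k, by rw [h2, mul_comm]⟩ with h3 | h3
  · omega
  · have : k = 1 := by
      subst h3
      exact Nat.eq_of_mul_eq_mul_right hp.pos (by rw [← h2, one_mul])
    rw [this, pow_one]

theorem main (h4 : 4 ≤ Nat.card F) : (¬ Ca (PSL2 F) ∧ ∀ H : Subgroup (PSL2 F), H ≠ ⊤ → Ca H) ↔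
    (((Nat.card F).Prime ∧ 5 < Nat.card F ∧ ¬ 16 ∣ Nat.card F ^ 2 - 1) ∨
      ∃ p : ℕ, p.Prime ∧ p ≠ 2 ∧ (Nat.card F = 3 ^ p ∨ Nat.card F = 5 ^ p)) := by
  obtain ⟨p, hch⟩ := CharP.exists F
  have hp : Fact p.Prime := ⟨CharP.char_is_prime F p⟩
  have h16 : 16 ∣ Nat.card F ^ 2 - 1 ↔ Nat.card F ^ 2 % 16 = 1 := by
    have : 1 ≤ Nat.card F ^ 2 := Nat.one_le_pow _ _ (by omega)
    omega
  constructor
  · rintro ⟨h1, h2⟩
    have hp2 : p ≠ 2 := by
      rintro rfl
      exact h1 (ca_psl_two (by exact_mod_cast CharP.cast_eq_zero F 2))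
    have h5 : Nat.card F ≠ 5 := fun h => h1 (ca_five h)
    have hS : Nat.card F ^ 2 % 16 ≠ 1 := fun h => by
      obtain ⟨H, h3, h6⟩ := exists_S4 h4 h
      exact h6 (h2 H h3)
    have := Fintype.ofFinite F
    obtain ⟨⟨n, hn⟩, -, hq⟩ := FiniteField.card F p
    rw [← Nat.card_eq_fintype_card] at hq
    change Nat.card F = p ^ n at hq
    have hpo := hp.out.odd_of_ne_two hp2
    have hsub : ∀ k m, k ≠ 0 → 2 ≤ m → n = k * m → p ^ k ≤ 5 := fun k m hk hm e => by
      by_contra h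
      obtain ⟨H, h3, h6⟩ := exists_sub (F := F) p hp2 hk hm (e ▸ hq) (by omega)
      exact h6 (h2 H h3)
    by_cases hn1 : n = 1
    · left
      rw [hn1, pow_one] at hq
      refine ⟨hq ▸ hp.out, ?_, fun h => hS (h16.1 h)⟩
      obtain ⟨k, hk⟩ := hpo
      omega
    right
    have hno : n % 2 = 1 := by
      by_contra h
      obtain ⟨k, rfl⟩ : ∃ k, n = 2 * k := ⟨n / 2, by omega⟩
      obtain ⟨j, hj⟩ : Odd (p ^ k) := hpo.pow
      apply hS
      have e : (p ^ (2 * k)) ^ 2 = (p ^ k) ^ 4 := by ring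
      rw [hq, e, hj]
      obtain ⟨d, hd⟩ := Nat.even_mul_succ_self j
      have : (2 * j + 1) ^ 4 = 16 * (4 * d * d + d) + 1 := by
        have e2 : (2 * j + 1) ^ 2 = 8 * d + 1 := by nlinarith
        rw [show (2 * j + 1) ^ 4 = ((2 * j + 1) ^ 2) ^ 2 by ring, e2]
        ring
      omega
    have hp5 := hsub 1 n one_ne_zero (by omega) (one_mul n).symm
    rw [pow_one] at hp5
    have hp3 := hp.out.two_le
    have hp35 : p = 3 ∨ p = 5 := by
      obtain ⟨k, hk⟩ := hpo
      omega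
    refine ⟨n, ?_, by omega, ?_⟩
    · by_contra hnp
      obtain ⟨k, hk, hk2, hkn⟩ := Nat.exists_dvd_of_not_prime2 (by omega) hnp
      obtain ⟨m, rfl⟩ := hk
      have hm : 2 ≤ m := by
        by_contra h
        have : m = 0 ∨ m = 1 := by omega
        rcases this with rfl | rfl <;> omega
      have h6 := hsub k m (by omega) hm rfl
      have h7 : 3 ^ 2 ≤ p ^ k := (Nat.pow_le_pow_left (by omega) 2).trans
        (Nat.pow_le_pow_right (by omega) hk2)
      omega
    · rcases hp35 with rfl | rfl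
      · exact Or.inl hq
      · exact Or.inr hq
  · rintro (⟨h1, h2, h3⟩ | ⟨r, hr, hr2, h⟩)
    · have ho := h1.odd_of_ne_two (by omega)
      refine ⟨not_ca ho h2, ca_proper p ho (fun h => h3 (h16.2 h)) fun r m hm e => ?_⟩
      rw [e] at h1
      exact absurd h1 (Nat.Prime.not_prime_pow hm)
    · have hro := hr.odd_of_ne_two hr2
      have hr3 : 3 ≤ r := by have := hr.two_le; omega
      obtain ⟨l, hl, hq⟩ : ∃ l, (l = 3 ∨ l = 5) ∧ Nat.card F = l ^ r :=
        h.elim (fun h => ⟨3, Or.inl rfl, h⟩) fun h => ⟨5, Or.inr rfl, h⟩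
      have hlp : l.Prime := by rcases hl with rfl | rfl <;> norm_num
      have ho : Odd (Nat.card F) := hq ▸ (hlp.odd_of_ne_two (by omega)).pow
      have h7 : 3 ^ 2 ≤ l ^ r := (Nat.pow_le_pow_left (by omega) 2).trans
        (Nat.pow_le_pow_right (by omega) (by omega))
      refine ⟨not_ca ho (by omega), ca_proper p ho (hq ▸ pow_prime_mod hl hro) fun s m hm e => ?_⟩
      rw [root_eq hlp hr hm (hq.symm.trans e)]
      exact hl

end PA

/-- `PSL₂(q)` is a minimal non-CA group exactly for the listed `q`. -/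
theorem psl_iff {F : Type} [Field F] [Fintype F] (h4 : 4 ≤ Fintype.card F) :
    (¬ (∀ x : Matrix.ProjectiveSpecialLinearGroup (Fin 2) F,
        x ∉ Subgroup.center (Matrix.ProjectiveSpecialLinearGroup (Fin 2) F) →
          IsMulCommutative (Subgroup.centralizer
            ({x} : Set (Matrix.ProjectiveSpecialLinearGroup (Fin 2) F)))) ∧
      ∀ H : Subgroup (Matrix.ProjectiveSpecialLinearGroup (Fin 2) F), H ≠ ⊤ →
        ∀ x : H, x ∉ Subgroup.center H → IsMulCommutative (Subgroup.centralizer ({x} : Set H))) ↔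
    (((Fintype.card F).Prime ∧ 5 < Fintype.card F ∧ ¬ 16 ∣ Fintype.card F ^ 2 - 1) ∨
      ∃ p : ℕ, p.Prime ∧ p ≠ 2 ∧ (Fintype.card F = 3 ^ p ∨ Fintype.card F = 5 ^ p)) := by
  rw [← Nat.card_eq_fintype_card] at h4 ⊢
  rw [← PA.main h4]
  simp only [PA.ca_iff]

end Cfsg.Lib.MinCA
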