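import Cfsg.Agent.Lib.Linear.MultA
import Cfsg.Agent.Lib.Linear.OutPSL
import Cfsg.Agent.Lib.Known.PSL2
import Cfsg.Agent.Lib.Linear.PSL2Small
import Cfsg.Agent.Lib.Transfer.Apps
import Cfsg.Agent.Lib.Mult.Hopf
import Cfsg.Agent.Lib.Char.Classes

/-! Central extensions of `L₂(q)` and of its overgroups in `Aut L₂(q)`: centralisers of elements. -/

set_option autoImplicit false

namespace Cfsg.Lib.MinCA

open Subgroup Function Cfsg.Lib.Known Cfsg.Lib.Linear

universe u

variable {X : Type u} [Group X] {F : Type} [Field F]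

namespace PB

theorem comm_of_sq [Finite X] {Q : Type*} [Group Q] [Finite Q] (π : X →* Q) (hk : π.ker ≤ center X) {y : X}
    (hy : π y ≠ 1) {r : ℕ} (hr : r.Prime) (h : Nat.card (centralizer ({π y} : Set Q)) ∣ r ^ 2) :
    IsMulCommutative (centralizer ({y} : Set X)) := by
  set C := centralizer ({y} : Set X)
  let f : C →* centralizer ({π y} : Set Q) := (π.comp C.subtype).codRestrict _ fun c => by
    rw [mem_centralizer_singleton_iff]
    have := mem_centralizer_singleton_iff.1 c.2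
    simpa [← map_mul] using congrArg π this
  have hf : ∀ c : C, c ∈ f.ker ↔ π c = 1 := fun c => by
    rw [MonoidHom.mem_ker, Subtype.ext_iff]; rfl
  have h1 : f.ker ≤ center C := fun c hc =>
    mem_center_iff.2 fun d => Subtype.ext (mem_center_iff.1 (hk ((hf c).1 hc)) d)
  have h2 : f.ker.index ∣ r ^ 2 := by
    rw [index_ker]; exact (card_subgroup_dvd_card _).trans h
  have h3 : (center C).index ∣ f.ker.index := index_dvd_of_le h1
  have h4 : (center C).index ≠ f.ker.index := fun e => by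
    have h5 := relIndex_mul_index h1
    rw [← e, Nat.mul_eq_right index_ne_zero_of_finite, relIndex_eq_one] at h5
    have h6 : (⟨y, mem_centralizer_singleton_iff.2 rfl⟩ : C) ∈ center C :=
      mem_center_iff.2 fun d => Subtype.ext (mem_centralizer_singleton_iff.1 d.2)
    exact hy ((hf _).1 (h5 h6))
  have h5 : (center C).index ∣ r := by
    obtain ⟨i, hi, e⟩ := (Nat.dvd_prime_pow hr).1 (h3.trans h2)
    rcases (show i ≤ 1 ∨ i = 2 by omega) with hi | rfl
    · rw [e]; exact (pow_dvd_pow r hi).trans (by rw [pow_one])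
    · exact (h4 (Nat.dvd_antisymm h3 (e ▸ h2))).elim
  have := Fact.mk hr
  have : IsCyclic (C ⧸ center C) := isCyclic_of_card_dvd_prime h5
  exact isMulCommutative_of_isCyclic_quotient_center_self _

theorem pow_four_ne {A : Type*} [CommGroup A] {τ : A →* Known.SL2 F} (h : IsTorus τ) {a : A}
    (h2 : (2 : F) = 0 ∨ pmk F (τ a) ^ 2 ≠ 1) : (2 : F) = 0 ∨ a ^ 4 ≠ 1 :=
  h2.imp_right fun h2 h4 => h2 (by
    rw [← map_pow, ← map_pow, pmk_eq_one_iff, h.scal, ← pow_mul]; exact h4)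

theorem cent_index [Finite F] {x : PSL2 F} (h1 : x ≠ 1) (h2 : (2 : F) = 0 ∨ x ^ 2 ≠ 1) :
    Nat.gcd 2 (Nat.card F - 1) * (centralizer ({x} : Set (PSL2 F))).index = Nat.card F ^ 2 - 1 ∨
      (centralizer ({x} : Set (PSL2 F))).index = Nat.card F * (Nat.card F + 1) ∨
      (centralizer ({x} : Set (PSL2 F))).index = Nat.card F * (Nat.card F - 1) := by
  have sq : ∀ {y : PSL2 F}, IsConj x y → (2 : F) = 0 ∨ y ^ 2 ≠ 1 := fun {y} k => h2.imp_right fun h e =>
    h (isConj_one_right.1 (e ▸ (k.pow 2).symm))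
  rcases PSL2_types x with h | ⟨b, hb, h⟩ | ⟨a, ha, h⟩ | ⟨z, hz, h⟩
  · exact (h1 h).elim
  · left; rw [Char.index_centralizer_eq_of_isConj h, index_centralizer_pmk_par hb]
  · right; left
    rw [Char.index_centralizer_eq_of_isConj h, isTorus_torusS.index_pmk ha (pow_four_ne isTorus_torusS (sq h)),
      index_range_torusS]
  · right; right
    rw [Char.index_centralizer_eq_of_isConj h, isTorus_singerS.index_pmk hz (pow_four_ne isTorus_singerS (sq h)),
      index_range_singerS]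

theorem cent_card [Finite F] (hq : Nat.card F = 4 ∨ Nat.card F = 9) {x : PSL2 F} (h1 : x ≠ 1)
    (h2 : (2 : F) = 0 ∨ x ^ 2 ≠ 1) : ∃ r, r.Prime ∧ Nat.card (centralizer ({x} : Set (PSL2 F))) ∣ r ^ 2 := by
  have h3 := cent_index h1 h2
  have h4 := card_PSL_two (F := F)
  rw [← (centralizer ({x} : Set (PSL2 F))).card_mul_index] at h4
  generalize Nat.card (centralizer ({x} : Set (PSL2 F))) = c at *
  generalize (centralizer ({x} : Set (PSL2 F))).index = i at *
  rcases hq with hq | hq <;> rw [hq] at h3 h4 <;> norm_num at h3 h4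
  · rcases h3 with rfl | rfl | rfl
    · exact ⟨2, Nat.prime_two, by rw [show c = 4 by omega]; norm_num⟩
    · exact ⟨3, Nat.prime_three, by rw [show c = 3 by omega]; norm_num⟩
    · exact ⟨5, Nat.prime_five, by rw [show c = 5 by omega]; norm_num⟩
  · rcases h3 with h3 | rfl | rfl
    · obtain rfl : i = 40 := by omega
      exact ⟨3, Nat.prime_three, by rw [show c = 9 by omega]; norm_num⟩
    · exact ⟨2, Nat.prime_two, by rw [show c = 4 by omega]; norm_num⟩
    · exact ⟨5, Nat.prime_five, by rw [show c = 5 by omega]; norm_num⟩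

theorem exists_lift [Fintype F] (h : 4 < Fintype.card F) (h9 : Fintype.card F ≠ 9) (π : X →* PSL2 F)
    (hs : Surjective π) (hk : π.ker ≤ center X) : ∃ η : Known.SL2 F →* X, π.comp η = pmk F :=
  (cclosed_SL2 h h9).exists_lift (Chev.CExt.of_ker_le hs hk) _

theorem comm_of_comm {g h k : Known.SL2 F} (hg : ¬ IsScal (g : M2 F)) (h1 : h * g = g * h) (h2 : k * g = g * k) :
    h * k = k * h := by
  obtain ⟨a, b, e⟩ := exists_eq_of_comm hg (B := (h : M2 F)) (congrArg Subtype.val h1)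
  obtain ⟨c, d, e'⟩ := exists_eq_of_comm hg (B := (k : M2 F)) (congrArg Subtype.val h2)
  refine Subtype.ext ?_
  change (h : M2 F) * (k : M2 F) = (k : M2 F) * (h : M2 F)
  rw [e, e']
  simp only [add_mul, mul_add, smul_mul_assoc, mul_smul_comm, one_mul, mul_one, smul_smul, smul_add]
  rw [mul_comm a c, mul_comm b d, mul_comm a d, mul_comm b c]
  abel

theorem comm_hom [Finite X] [Fintype F] (h4 : 4 ≤ Fintype.card F) (π : X →* PSL2 F) (hs : Surjective π)
    (hk : π.ker ≤ center X) {y : X} (hy : π y ≠ 1) (h2 : (2 : F) = 0 ∨ π y ^ 2 ≠ 1) :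
    IsMulCommutative (centralizer ({y} : Set X)) := by
  by_cases hq : Nat.card F = 4 ∨ Nat.card F = 9
  · obtain ⟨r, hr, h⟩ := cent_card hq hy h2
    exact comm_of_sq π hk hy hr h
  rw [Nat.card_eq_fintype_card] at hq
  obtain ⟨η, hη⟩ := exists_lift (by omega) (by omega) π hs hk
  obtain ⟨g, hg⟩ := pmk_surjective (π y)
  have key : ∀ c ∈ centralizer ({y} : Set X), ∃ h, h * g = g * h ∧ ∃ z ∈ center X, c = η h * z := fun c hc => by
    obtain ⟨h, z, hz, e⟩ := Mult.exists_mul_ker hη pmk_surjective c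
    refine ⟨h, ?_, z, hk hz, e⟩
    have e1 : pmk F h = π c := by
      rw [e, map_mul, MonoidHom.mem_ker.1 hz, mul_one, ← hη]; rfl
    have e2 : h ∈ (centralizer {pmk F g}).comap (pmk F) := by
      rw [mem_comap, e1, hg, mem_centralizer_singleton_iff, ← map_mul, ← map_mul,
        mem_centralizer_singleton_iff.1 hc]
    rcases mem_comap_centralizer_pmk.1 e2 with e3 | e3
    · exact e3
    rcases h2 with h2 | h2
    · rwa [SL2_neg_eq_self h2] at e3
    by_cases h0 : (2 : F) = 0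
    · rwa [SL2_neg_eq_self h0] at e3
    refine (h2 ?_).elim
    have e4 : tr2 g = -tr2 g := by
      rw [← tr2_neg, ← tr2_conj h g, e3, mul_inv_cancel_right]
    rw [← hg]
    refine psl2_sq_eq_one_iff.2 (Or.inl ?_)
    have : 2 * tr2 g = 0 := by linear_combination e4
    exact (mul_eq_zero.1 this).resolve_left h0
  have hn : ¬ IsScal (g : M2 F) := fun h => hy (hg ▸ pmk_eq_one_iff.2 h)
  refine ⟨⟨fun c d => Subtype.ext ?_⟩⟩
  obtain ⟨h, h1, z, hz, e⟩ := key c c.2
  obtain ⟨k, k1, w, hw, e'⟩ := key d d.2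
  rw [coe_mul, coe_mul, ← commutatorElement_eq_one_iff_mul_comm, e, e', Mult.commutatorElement_mul_center hz hw,
    commutatorElement_eq_one_iff_mul_comm, ← map_mul, ← map_mul, comm_of_comm hn h1 k1]

/-- The projection onto `L₂(q)` given by an isomorphism from the central quotient. -/
def proj {N : Subgroup X} [N.Normal] {Q : Type*} [Group Q] (e : X ⧸ N ≃* Q) : X →* Q :=
  e.toMonoidHom.comp (QuotientGroup.mk' N)

theorem proj_surj {N : Subgroup X} [N.Normal] {Q : Type*} [Group Q] (e : X ⧸ N ≃* Q) : Surjective (proj e) :=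
  e.surjective.comp (QuotientGroup.mk'_surjective N)

theorem proj_eq_one {N : Subgroup X} [N.Normal] {Q : Type*} [Group Q] (e : X ⧸ N ≃* Q) {x : X} :
    proj e x = 1 ↔ x ∈ N :=
  (map_eq_one_iff _ e.injective).trans (QuotientGroup.eq_one_iff x)

theorem ab_image [Finite X] {Q : Type*} [Group Q] (π : X →* Q) (hs : Surjective π)
    (h : ∀ S : Sylow 2 X, IsMulCommutative S) (P : Sylow 2 Q) : IsMulCommutative P := by
  have : Fact (Nat.Prime 2) := ⟨Nat.prime_two⟩
  obtain ⟨S, rfl⟩ := Sylow.mapSurjective_surjective hs 2 P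
  have := h S
  exact Subgroup.map_isMulCommutative _ π

theorem not_ab_nine [Finite F] (hq : Nat.card F = 9) : ¬ ∀ S : Sylow 2 (PSL2 F), IsMulCommutative S := fun h => by
  have : Fact (Nat.Prime 2) := ⟨Nat.prime_two⟩
  obtain ⟨a, ha⟩ := exists_orderOf_eq_of_isCyclic (A := Fˣ) (m := 8) (by rw [Nat.card_units, hq])
  have h4 : a ^ 4 ≠ 1 := fun e => by
    have := orderOf_dvd_of_pow_eq_one e
    rw [ha] at this; norm_num at this
  have h2 : a ^ 2 ≠ 1 := fun e => h4 (by rw [show 4 = 2 * 2 from rfl, pow_mul, e, one_pow])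
  have hi := isTorus_torusS.index_pmk h2 (Or.inr h4)
  rw [index_range_torusS, hq] at hi
  have h8 : pmk F (torusS F a) ^ 2 ^ 3 = 1 := by
    rw [← map_pow, ← map_pow, show 2 ^ 3 = 8 from rfl, ← ha, pow_orderOf_eq_one, map_one, map_one]
  have hp : IsPGroup 2 (zpowers (pmk F (torusS F a))) := by
    rintro ⟨_, k, rfl⟩
    refine ⟨3, Subtype.ext ?_⟩
    change (pmk F (torusS F a) ^ k) ^ 2 ^ 3 = 1
    rw [← zpow_natCast, ← zpow_mul, mul_comm, zpow_mul, zpow_natCast, h8, one_zpow]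
  obtain ⟨P, hP⟩ := hp.exists_le_sylow
  have h5 : (P : Subgroup (PSL2 F)) ≤ centralizer {pmk F (torusS F a)} := fun c hc =>
    mem_centralizer_singleton_iff.2 (congrArg Subtype.val
      ((h P).is_comm.comm ⟨c, hc⟩ ⟨_, hP (mem_zpowers _)⟩))
  exact P.not_dvd_index ((show 2 ∣ _ by rw [hi]; norm_num).trans (index_dvd_of_le h5))

theorem triv_hom [Finite X] [Fintype F] (h4 : 4 < Fintype.card F) (π : X →* PSL2 F) (hs : Surjective π)
    (hk : ∀ x, π x = 1 ↔ x ∈ center X) (hp : commutator X = ⊤) (hS : ∀ S : Sylow 2 X, IsMulCommutative S) :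
    center X = ⊥ := by
  have : Fact (Nat.Prime 2) := ⟨Nat.prime_two⟩
  by_cases h9 : Fintype.card F = 9
  · exact (not_ab_nine (Nat.card_eq_fintype_card.trans h9) (ab_image π hs hS)).elim
  have hk' : π.ker ≤ center X := fun x hx => (hk x).1 hx
  obtain ⟨η, hη⟩ := exists_lift h4 h9 π hs hk'
  have h1 := Mult.map_commutator_of_lift hη pmk_surjective hk'
  have h2 : IsPGroup 2 (center X) := fun z => by
    obtain ⟨g, -, hg⟩ : (z : X) ∈ (commutator (Known.SL2 F)).map η := by rw [h1, hp]; trivial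
    have h3 : pmk F g = 1 := by
      rw [← hη, MonoidHom.comp_apply, hg]; exact (hk _).2 z.2
    refine ⟨1, Subtype.ext ?_⟩
    change (z : X) ^ 2 ^ 1 = 1
    rw [← hg, ← map_pow]
    rcases pmk_eq_one_iff'.1 h3 with rfl | rfl
    · simp
    · simp
  obtain ⟨P, hP⟩ := h2.exists_le_sylow
  have e := commutator_eq_bot_iff_le_centralizer.2 (le_centralizer_iff_isMulCommutative.2 (hS P))
  have h3 := Transfer.inf_commutator_inf_center_le (P : Subgroup X) (by
    rw [e, relIndex_bot_left]; exact P.card_coprime_index.symm)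
  rw [e, hp] at h3
  exact eq_bot_iff.2 fun z hz => h3 ⟨⟨hP hz, trivial⟩, hz⟩

theorem exists_act {Q : Type*} [Group Q] (N : Subgroup X) [N.Normal] (ρ : N →* Q) (hs : Surjective ρ)
    (hk : ∀ n, ρ n = 1 ↔ (n : X) ∈ center X) :
    ∃ ψ : X →* MulAut Q, ∀ g n, ψ g (ρ n) = ρ (MulAut.conjNormal g n) := by
  have h1 : ∀ g : X, ∃ f : Q →* Q, f.comp ρ = ρ.comp (MulAut.conjNormal g : MulAut N).toMonoidHom := fun g =>
    Mult.exists_factor hs _ fun n hn => (hk _).2 (by
      change g * n * g⁻¹ ∈ _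
      rw [mem_center_iff.1 ((hk n).1 hn) g, mul_inv_cancel_right]; exact (hk n).1 hn)
  choose f hf using h1
  have h2 : ∀ g n, f g (ρ n) = ρ (MulAut.conjNormal g n) := fun g n => DFunLike.congr_fun (hf g) n
  have h3 : ∀ g h x, f (g * h) x = f g (f h x) := fun g h x => by
    obtain ⟨n, rfl⟩ := hs x
    rw [h2, h2, h2, map_mul, MulAut.mul_apply]
  have h4 : ∀ x, f 1 x = x := fun x => by
    obtain ⟨n, rfl⟩ := hs x
    rw [h2, map_one, MulAut.one_apply]
  refine ⟨MonoidHom.mk' (fun g => MonoidHom.toMulEquiv (f g) (f g⁻¹) (MonoidHom.ext fun x => ?_)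
    (MonoidHom.ext fun x => ?_)) fun g h => MulEquiv.ext fun x => h3 g h x, h2⟩
  · rw [MonoidHom.comp_apply, ← h3, inv_mul_cancel, h4]; rfl
  · rw [MonoidHom.comp_apply, ← h3, mul_inv_cancel, h4]; rfl

theorem field_mem [Finite F] (β : MulAut (PSL2 F)) {m : ℕ} (hm : β ^ m ∈ Inn (PSL2 F)) (h : (2 : F) = 0 ∨ Odd m) :
    ∃ σ, β * (pslField (Fin 2) F σ)⁻¹ ∈ Inn (PSL2 F) ∧ σ ^ m = 1 := by
  obtain ⟨Φ, h1, h2⟩ := exists_autField_two (F := F)
  obtain ⟨φ, k1, -, -, k2⟩ := exists_out_hom Φ (fun σ => ⟨_, h1 σ⟩) h2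
  rw [Fintype.card_fin] at k2
  have h3 : Φ β ^ m = 1 := by
    rw [← map_pow, ← MonoidHom.mem_ker, h2]; exact Inn_le_range_pslConj hm
  refine ⟨Φ β, ?_, h3⟩
  set π := QuotientGroup.mk' (Inn (PSL2 F))
  rw [← QuotientGroup.eq_one_iff]
  change π _ = 1
  set d := π (β * (pslField (Fin 2) F (Φ β))⁻¹) with hd
  have h4 : d ∈ φ.ker := by
    rw [MonoidHom.mem_ker]
    refine (k1 _).trans ?_
    rw [map_mul, map_inv, h1, mul_inv_cancel]
  by_cases h0 : (2 : F) = 0
  · rw [gcd_two_of_two_eq_zero h0, card_eq_one] at k2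
    rwa [k2] at h4
  rw [gcd_two_of_two_ne_zero h0] at k2
  by_contra hne
  obtain ⟨y, -, hy⟩ := (Nat.card_eq_two_iff' (1 : φ.ker)).1 k2
  have h5 : ∀ x ∈ φ.ker, x ≠ 1 → x = d := fun x hx hx1 => congrArg Subtype.val
    ((hy ⟨x, hx⟩ fun e => hx1 (congrArg Subtype.val e)).trans
      (hy ⟨d, h4⟩ fun e => hne (congrArg Subtype.val e)).symm)
  set s := π (pslField (Fin 2) F (Φ β)) with hs
  have h6 : Commute d s := by
    have := h5 (s * d * s⁻¹) (Normal.conj_mem inferInstance _ h4 s) fun e => hne (by simpa using e)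
    exact (mul_inv_eq_iff_eq_mul.1 this).symm
  have h7 : d * s = π β := by rw [hd, hs, ← map_mul, inv_mul_cancel_right]
  have h8 : d ^ m = 1 := by
    have e1 : s ^ m = 1 := by rw [hs, ← map_pow, ← map_pow, h3, map_one, map_one]
    have e2 : π β ^ m = 1 := by rw [← map_pow]; exact (QuotientGroup.eq_one_iff _).2 hm
    rwa [← h7, h6.mul_pow, e1, mul_one] at e2
  have h9 : d ^ 2 = 1 := by
    have := pow_card_eq_one' (x := (⟨d, h4⟩ : φ.ker))
    rw [k2] at this
    exact congrArg Subtype.val this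
  obtain ⟨k, rfl⟩ := h.resolve_left h0
  rw [pow_succ, pow_mul, h9, one_pow, one_mul] at h8
  exact hne h8

theorem isPGroup_zpowers {G : Type*} [Group G] {p k : ℕ} {c : G} (h : c ^ p ^ k = 1) : IsPGroup p (zpowers c) := by
  rintro ⟨_, j, rfl⟩
  refine ⟨k, Subtype.ext ?_⟩
  change (c ^ j) ^ p ^ k = 1
  rw [← zpow_natCast, ← zpow_mul, mul_comm, zpow_mul, zpow_natCast, h, one_zpow]

theorem comm_of_dih {G : Type*} [Group G] [Finite G] (h : ∀ S : Sylow 2 G, IsMulCommutative S) {a b : G}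
    (ha : a * a = 1) (hb : b * b = 1) (hab : (a * b) ^ 2 ^ 2 = 1) : a * b = b * a := by
  have : Fact (Nat.Prime 2) := ⟨Nat.prime_two⟩
  have h1 : IsPGroup 2 (zpowers a) := isPGroup_zpowers (k := 1) (by rw [pow_one, sq, ha])
  have h2 : a * (a * b) * a⁻¹ = (a * b)⁻¹ := by
    rw [← mul_assoc, ha, one_mul, mul_inv_rev, inv_eq_of_mul_eq_one_right hb]
  have h3 : zpowers a ≤ normalizer (zpowers (a * b) : Set G) := zpowers_le.2 (mem_normalizer_fintype (by
    rintro _ ⟨k, rfl⟩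
    rw [← conj_zpow, h2]
    exact zpow_mem (inv_mem (mem_zpowers _)) k))
  obtain ⟨P, hP⟩ := (h1.to_sup_of_normal_right' (isPGroup_zpowers hab) h3).exists_le_sylow
  have k1 : a ∈ (P : Subgroup G) := hP (mem_sup_left (mem_zpowers _))
  have k2 : b ∈ (P : Subgroup G) := (mul_mem_cancel_left k1).1 (hP (mem_sup_right (mem_zpowers _)))
  exact congrArg Subtype.val ((h P).is_comm.comm ⟨a, k1⟩ ⟨b, k2⟩)

theorem comm_of_dih' [Finite X] {Q : Type*} [Group Q] (π : X →* Q) (h : ∀ S : Sylow 2 X, IsMulCommutative S)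
    {a b : X} (ha : π a * π a = 1) (hb : π b * π b = 1) (hab : (π a * π b) ^ 2 ^ 2 = 1) :
    π a * π b = π b * π a := by
  have : Finite π.range := Finite.of_surjective _ π.rangeRestrict_surjective
  exact congrArg Subtype.val (comm_of_dih (ab_image _ π.rangeRestrict_surjective h) (a := π.rangeRestrict a)
    (b := π.rangeRestrict b) (Subtype.ext ha) (Subtype.ext hb) (Subtype.ext hab))

theorem pmk_triS_inj {s t : F} (h : pmk F (triS 1 s) = pmk F (triS 1 t)) : s = t := by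
  rcases pmk_eq_iff.1 h with h | h
  · exact (triS_inj.1 h).2.symm
  · rw [neg_triS] at h
    obtain ⟨h1, h2⟩ := triS_inj.1 h
    have h3 : (1 : F) = -1 := by simpa using congrArg Units.val h1
    rw [h2, ← neg_one_mul, ← h3, one_mul]

theorem slField_triS (σ : F ≃+* F) (t : F) : slField (Fin 2) F σ (triS 1 t) = triS 1 (σ t) := by
  refine Subtype.ext ?_
  rw [coe_slField]
  change (triS 1 t : M2 F).map σ = (triS 1 (σ t) : M2 F)
  rw [coe_triS, coe_triS]
  ext i j
  fin_cases i <;> fin_cases j <;> simp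

theorem triS_conj (a : Fˣ) (b t : F) : triS a b * triS 1 t * (triS a b)⁻¹ = triS 1 (a ^ 2 * t) := by
  rw [mul_inv_eq_iff_eq_mul, triS_mul, triS_mul, mul_one, one_mul, triS_inj]
  refine ⟨rfl, ?_⟩
  simp only [Units.val_one, inv_one]
  field_simp
  ring

theorem triS_add (s t : F) : triS 1 s * triS 1 t = triS 1 (s + t) := by
  rw [triS_mul, mul_one, triS_inj]
  exact ⟨rfl, by simp [add_comm]⟩

theorem field_big [Finite X] [Finite F] (h4 : 4 ≤ Nat.card F) (η : Known.SL2 F →* X)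
    (hη : ∀ s t, η s = η t → pmk F s = pmk F t) {g : X} {σ : F ≃+* F}
    (hg : ∀ s, g * η s * g⁻¹ = η (slField (Fin 2) F σ s))
    (hCA : ∀ H : Subgroup X, H ≠ ⊤ → ∀ x : H, x ∉ center H → IsMulCommutative (centralizer ({x} : Set H))) :
    σ = 1 := by
  set H := normalizer (Set.range fun t : F => η (triS 1 t))
  have h1 : g ∈ H := mem_normalizer_fintype (by
    rintro _ ⟨t, rfl⟩
    exact ⟨σ t, by rw [hg, slField_triS]⟩)
  have h2 : ∀ a b, η (triS a b) ∈ H := fun a b => mem_normalizer_fintype (by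
    rintro _ ⟨t, rfl⟩
    exact ⟨a ^ 2 * t, by rw [← map_inv, ← map_mul, ← map_mul, triS_conj]⟩)
  have h3 : H ≠ ⊤ := fun e => by
    let w : Known.SL2 F := ⟨!![0, 1; -1, 0], by simp [Matrix.det_fin_two]⟩
    have k1 : η w ∈ H := e ▸ mem_top _
    obtain ⟨t, ht⟩ := (mem_set_normalizer_iff.1 k1 (η (triS 1 1))).1 ⟨1, rfl⟩
    simp only [← map_inv, ← map_mul] at ht
    have k2 : ((triS 1 t * w : Known.SL2 F) : M2 F) 1 1 = 0 := by
      change ((triS 1 t : M2 F) * (!![0, 1; -1, 0] : M2 F) : M2 F) 1 1 = 0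
      rw [coe_triS]; simp
    have k3 : ((w * triS 1 1 : Known.SL2 F) : M2 F) 1 1 = -1 := by
      change ((!![0, 1; -1, 0] : M2 F) * (triS (1 : Fˣ) 1 : M2 F) : M2 F) 1 1 = -1
      rw [coe_triS]; simp
    rcases pmk_eq_iff.1 (hη _ _ ht) with k | k <;> rw [mul_inv_eq_iff_eq_mul] at k <;> rw [k] at k3
    · simp [k2] at k3
    · rw [neg_mul, Matrix.SpecialLinearGroup.coe_neg, Matrix.neg_apply, k2] at k3
      simp at k3
  obtain ⟨a, ha⟩ : ∃ a : Fˣ, a ^ 2 ≠ 1 := by
    by_contra! h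
    have k1 := card_sq_eq_one_gcd (F := F)
    rw [Nat.card_congr (Equiv.subtypeUnivEquiv h), Nat.card_units] at k1
    have := Nat.gcd_le_left (m := 2) (Nat.card F - 1) two_pos
    omega
  have h5 := hCA H h3 ⟨_, h2 1 1⟩ fun hc => ha (by
    have k1 := congrArg Subtype.val (mem_center_iff.1 hc ⟨_, h2 a 0⟩)
    change η _ * η _ = η _ * η _ at k1
    rw [← mul_inv_eq_iff_eq_mul, ← map_inv, ← map_mul, ← map_mul, triS_conj] at k1
    have k2 := pmk_triS_inj (hη _ _ k1)
    exact Units.ext (by simpa using k2))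
  refine RingEquiv.ext fun t => ?_
  have k1 : (⟨g, h1⟩ : H) ∈ centralizer ({⟨_, h2 1 1⟩} : Set H) := mem_centralizer_singleton_iff.2 (Subtype.ext (by
    change g * η _ = η _ * g
    rw [← mul_inv_eq_iff_eq_mul, hg, slField_triS, map_one]))
  have k2 : (⟨_, h2 1 t⟩ : H) ∈ centralizer ({⟨_, h2 1 1⟩} : Set H) :=
    mem_centralizer_singleton_iff.2 (Subtype.ext (by
      change η _ * η _ = η _ * η _
      rw [← map_mul, ← map_mul, triS_add, triS_add, add_comm]))
  have k3 := congrArg (fun x => ((x : H) : X)) (congrArg Subtype.val (h5.is_comm.comm ⟨_, k1⟩ ⟨_, k2⟩))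
  change g * η _ = η _ * g at k3
  rw [← mul_inv_eq_iff_eq_mul, hg, slField_triS] at k3
  exact pmk_triS_inj (hη _ _ k3)

theorem aut_sq [Finite F] (hq : Nat.card F = 4 ∨ Nat.card F = 9) (σ : F ≃+* F) : σ ^ 2 = 1 := by
  have : Fact (Nat.Prime 2) := ⟨Nat.prime_two⟩
  have : Fact (Nat.Prime 3) := ⟨Nat.prime_three⟩
  have h : Nat.card (F ≃+* F) = 2 :=
    hq.elim (fun h => CAut.card_ringAut' (p := 2) h) fun h => CAut.card_ringAut' (p := 3) h
  rw [← h, pow_card_eq_one']

end PB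

open PB

theorem cover_comm [Finite X] [Fintype F] (h4 : 4 ≤ Fintype.card F)
    (e : X ⧸ center X ≃* Matrix.ProjectiveSpecialLinearGroup (Fin 2) F) (y : X) (hy : y ∉ center X)
    (h2 : Even (Fintype.card F) ∨ y ^ 2 ∉ center X) : IsMulCommutative (centralizer ({y} : Set X)) :=
  comm_hom h4 (proj e) (proj_surj e) (fun _ h => (proj_eq_one e).1 h) (mt (proj_eq_one e).1 hy)
    (h2.imp (fun h => two_eq_zero_of_even (Nat.card_eq_fintype_card (α := F) ▸ h))
      fun h k => h ((proj_eq_one e).1 (by rw [map_pow, k])))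

theorem cover_triv [Finite X] [Fintype F] (h4 : 4 ≤ Fintype.card F)
    (e : X ⧸ center X ≃* Matrix.ProjectiveSpecialLinearGroup (Fin 2) F) (hp : commutator X = ⊤)
    (hS : ∀ S : Sylow 2 X, IsMulCommutative S) : center X = ⊥ := by
  rcases h4.lt_or_eq with h | h
  · exact triv_hom h (proj e) (proj_surj e) (fun _ => proj_eq_one e) hp hS
  · have : Fact (Nat.Prime 5) := ⟨Nat.prime_five⟩
    obtain ⟨e1⟩ := psl2_four_equiv (F := F) (Nat.card_eq_fintype_card.trans h.symm)
    obtain ⟨e2⟩ := psl2_five_equiv (F := ZMod 5) (Nat.card_zmod 5)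
    exact triv_hom (F := ZMod 5) (by rw [ZMod.card]; norm_num) (proj (e.trans (e1.trans e2.symm)))
      (proj_surj _) (fun _ => proj_eq_one _) hp hS

theorem outer [Finite X] [Fintype F] (h4 : 4 ≤ Fintype.card F) (N : Subgroup X) [N.Normal] (hZ : center X ≤ N)
    (e : N ⧸ (center X).subgroupOf N ≃* Matrix.ProjectiveSpecialLinearGroup (Fin 2) F)
    (hC : ∀ g, (∀ n ∈ N, g * n * g⁻¹ * n⁻¹ ∈ center X) → g ∈ center X)
    (hCA : ∀ H : Subgroup X, H ≠ ⊤ → ∀ x : H, x ∉ center H → IsMulCommutative (centralizer ({x} : Set H)))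
    (h : Odd N.index ∨ (Even (Fintype.card F) ∧ ∀ S : Sylow 2 X, IsMulCommutative S)) : N = ⊤ := by
  rw [← Nat.card_eq_fintype_card] at h4 h
  set ρ : N →* PSL2 F := proj e
  have hs : Surjective ρ := proj_surj e
  have hk : ∀ n, ρ n = 1 ↔ (n : X) ∈ center X := fun n => proj_eq_one e
  obtain ⟨ψ, hψ⟩ := exists_act N ρ hs hk
  have h1 : ∀ n : N, ψ n = MulAut.conj (ρ n) := fun n => MulEquiv.ext fun x => by
    obtain ⟨k, rfl⟩ := hs x
    rw [hψ, MulAut.conj_apply, ← map_inv, ← map_mul, ← map_mul]; rfl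
  have h2 : ∀ g, ψ g = 1 → g ∈ center X := fun g hg => hC g fun n hn => by
    have := hψ g ⟨n, hn⟩
    rw [hg, MulAut.one_apply, eq_comm, ← mul_inv_eq_one, ← map_inv, ← map_mul, hk] at this
    exact this
  have h3 : ∀ g, ψ g ∈ Inn (PSL2 F) → g ∈ N := by
    rintro g ⟨x, hx⟩
    obtain ⟨n, rfl⟩ := hs x
    rw [← h1, eq_comm, ← mul_inv_eq_one, ← map_inv, ← map_mul] at hx
    exact (mul_mem_cancel_right (inv_mem n.2)).1 (hZ (h2 _ hx))
  have key : ∀ g σ, ψ g = pslField (Fin 2) F σ → σ ^ N.index = 1 → σ = 1 := fun g σ hg hσ => by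
    by_cases hq : Nat.card F = 4 ∨ Nat.card F = 9
    · have k1 := aut_sq hq σ
      rcases h with ⟨k, h⟩ | ⟨he, h⟩
      · rwa [h, pow_succ, pow_mul, k1, one_pow, one_mul] at hσ
      have k2 := two_eq_zero_of_even he
      refine RingEquiv.ext fun t => ?_
      obtain ⟨n, hn⟩ := hs (pmk F (triS 1 t))
      have k3 : ∀ s : F, MulAut.conj (pmk F (triS 1 s)) * MulAut.conj (pmk F (triS 1 s)) = 1 := fun s => by
        rw [← map_mul, ← map_mul, triS_add, ← two_mul, k2, zero_mul, triS_one, map_one, map_one]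
      have k4 : ψ g * ψ g = 1 := by rw [hg, ← map_mul, ← sq, k1, map_one]
      have k5 : ρ (MulAut.conjNormal g n) = pmk F (triS 1 (σ t)) := by
        rw [← hψ, hn, hg, ← slField_triS]; rfl
      have k6 : ψ g * ψ n * (ψ g)⁻¹ = MulAut.conj (pmk F (triS 1 (σ t))) := by
        rw [← k5, ← h1, ← map_inv, ← map_mul, ← map_mul]; rfl
      have k7 := comm_of_dih' ψ h k4 (b := n) (by rw [h1, hn, k3]) (by
        rw [show 2 ^ 2 = 2 * 2 from rfl, pow_mul, sq (ψ g * ψ n), ← mul_assoc,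
          ← congrArg (ψ g * ψ n * ·) (inv_eq_of_mul_eq_one_right k4), k6, h1, hn, ← map_mul, ← map_mul,
          triS_add, sq, k3])
      rw [← mul_inv_eq_iff_eq_mul, ← mul_inv_eq_one, ← map_inv, ← map_inv, ← map_mul, ← map_mul,
        ← map_mul] at k7
      have k8 := (hk (MulAut.conjNormal g n * n⁻¹)).2 (h2 _ k7)
      rw [map_mul, map_inv, mul_inv_eq_one, k5, hn] at k8
      exact pmk_triS_inj k8
    rw [Nat.card_eq_fintype_card] at hq h4
    have hk' : ρ.ker ≤ center N := fun n hn =>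
      mem_center_iff.2 fun m => Subtype.ext (mem_center_iff.1 ((hk n).1 hn) m)
    obtain ⟨η, hη⟩ := exists_lift (by omega) (by omega) ρ hs hk'
    have k1 : ∀ s, ρ (η s) = pmk F s := fun s => DFunLike.congr_fun hη s
    refine field_big (Nat.card_eq_fintype_card (α := F) ▸ h4) (N.subtype.comp η) (fun s t k => ?_) (g := g)
      (fun s => ?_) hCA
    · rw [← k1, ← k1, Subtype.ext k]
    · have := sl_fin_isPerfect (F := F) (n := 2) fun _ => Nat.card_eq_fintype_card (α := F) ▸ h4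
      refine congrArg Subtype.val (Mult.eq_on_commutator_of_lift hk'
        (η := (MulAut.conjNormal g : MulAut N).toMonoidHom.comp η)
        (η' := η.comp (slField (Fin 2) F σ).toMonoidHom) (MonoidHom.ext fun x => ?_) (g := s)
        (by rw [this.commutator_eq_top]; trivial))
      change ρ (MulAut.conjNormal g (η x)) = ρ (η (slField (Fin 2) F σ x))
      rw [← hψ, k1, k1, hg]; rfl
  refine eq_top_iff.2 fun g _ => ?_
  obtain ⟨σ, ⟨x, hx⟩, hσ⟩ := field_mem (ψ g) (m := N.index)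
    ⟨ρ ⟨_, N.pow_index_mem g⟩, by rw [← h1, map_pow]⟩ (h.symm.imp_left fun h => two_eq_zero_of_even h.1)
  obtain ⟨n, rfl⟩ := hs x
  have k1 : ψ ((n : X)⁻¹ * g) = pslField (Fin 2) F σ := by
    rw [map_mul, map_inv, h1, hx, mul_inv_rev, inv_inv, inv_mul_cancel_right]
  rw [key _ σ k1 hσ, map_one] at k1
  exact (mul_mem_cancel_left (inv_mem n.2)).1 (hZ (h2 _ k1))

end Cfsg.Lib.MinCA
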