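import Cfsg.Agent.Lib.FT.Cor
import Cfsg.Agent.Lib.Transfer.Apps
import Cfsg.Agent.Lib.Block.IsoElt
import Cfsg.Agent.Lib.Invol.Sylow2
import Cfsg.Agent.Lib.Core.Subnormal
import Cfsg.Agent.S0042

/-! Minimal non-CA groups, I: the centralizer of a bad element and the solvable radical. -/

set_option autoImplicit false
set_option linter.unusedSectionVars false

namespace Cfsg.Lib.MinCA
open Subgroup Cfsg.Lib.Core Cfsg.Lib.Transfer Cfsg.Lib.Invol

variable {G : Type*} [Group G] [Finite G]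

/-- all proper subgroups are CA-groups -/
def PCA (G : Type*) [Group G] : Prop := ∀ H : Subgroup G, H ≠ ⊤ → ∀ x ∈ H, ∀ a ∈ H, ∀ b ∈ H,
  Commute a x → Commute b x → ¬ Commute a b → H ≤ centralizer {x}

/-- a non-central element with non-abelian centralizer -/
def Bad (x : G) : Prop := x ∉ center G ∧ ∃ a b, Commute a x ∧ Commute b x ∧ ¬ Commute a b

theorem pca_of (h : ∀ H : Subgroup G, H ≠ ⊤ → ∀ x : H, x ∉ center H → IsMulCommutative (centralizer ({x} : Set H))) :
    PCA G := fun H hH x hx a ha b hb h1 h2 h3 g hg => by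
  by_contra h4
  have := h H hH ⟨x, hx⟩ fun e => h4 (mem_cent.2 (congrArg Subtype.val (mem_center_iff.1 e ⟨g, hg⟩)))
  exact h3 (congrArg (fun y : centralizer ({(⟨x, hx⟩ : H)} : Set H) => y.1.1) (this.is_comm.comm
    ⟨⟨a, ha⟩, mem_cent.2 (Subtype.ext h1)⟩ ⟨⟨b, hb⟩, mem_cent.2 (Subtype.ext h2)⟩))

theorem PCA.sub (h : PCA G) (N : Subgroup G) : PCA N := fun H hH x hx a ha b hb h1 h2 h3 g hg => by
  have h4 : H.map N.subtype ≠ ⊤ := fun e => hH (eq_top_iff.2 fun y _ => by
    obtain ⟨z, hz, e'⟩ := e.ge (mem_top y.1)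
    exact (Subtype.ext e' : z = y) ▸ hz)
  exact mem_cent.2 (Subtype.ext (mem_cent.1 (h _ h4 x ⟨x, hx, rfl⟩ a ⟨a, ha, rfl⟩ b ⟨b, hb, rfl⟩
    (congrArg Subtype.val h1) (congrArg Subtype.val h2) (fun e => h3 (Subtype.ext e)) ⟨g, hg, rfl⟩)))

theorem solv_norm {P H : Subgroup G} (hP : SylowIn 2 P H) (h : H ≤ normalizer (P : Set G)) : Group.IsSolvable H := by
  have : (P.subgroupOf H).Normal := (normal_subgroupOf_iff_le_normalizer hP.1).2 h
  have := isSolvable_of_isPGroup Nat.prime_two hP.2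
  have := isSolvable_subgroupOf P H
  have : Group.IsSolvable (H ⧸ P.subgroupOf H) :=
    FT.odd_order_solvable _ (Nat.not_even_iff_odd.1 fun e => hP.3 e.two_dvd)
  exact isSolvable_of_normal_of_quotient (P.subgroupOf H)

theorem solv_pnil {H : Subgroup G} (h : PNil 2 H) : Group.IsSolvable H := by
  have := fact_two
  obtain ⟨P, hP⟩ := exists_sylowIn (p := 2) H
  have := FT.solvable_of_not_two_dvd _ h
  have := isSolvable_of_isPGroup Nat.prime_two hP.2
  rw [← hP.resOf_sup, sup_comm]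
  exact isSolvable_sup_of_le_normalizer (hP.1.trans (le_normalizer_resOf H))

theorem exists_nc {P H : Subgroup G} (hP : SylowIn 2 P H) (h : ¬ Group.IsSolvable H) :
    ∃ a ∈ H ⊓ normalizer (P : Set G), ∃ b ∈ H ⊓ normalizer (P : Set G), ¬ Commute a b := by
  have := fact_two
  by_contra! e
  exact h (solv_pnil (hP.pnil_of_normalizer_le_centralizer fun a ha b hb =>
    (e b ⟨hP.1 hb, le_normalizer hb⟩ a ha).eq))

theorem solv_top (h : Group.IsSolvable (⊤ : Subgroup G)) : Group.IsSolvable G :=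
  Group.isSolvable_of_surjective (f := (⊤ : Subgroup G).subtype) fun x => ⟨⟨x, mem_top x⟩, rfl⟩

theorem solv_comm {H : Subgroup G} (h : ∀ a ∈ H, ∀ b ∈ H, Commute a b) : Group.IsSolvable H :=
  Group.isSolvable_of_comm fun a b => Subtype.ext (h a a.2 b b.2)

theorem cent_norm {P : Subgroup G} {y : G} (h : ∀ n ∈ P, Commute n y) : y ∈ normalizer (P : Set G) :=
  centralizer_le_normalizer _ fun n hn => (h n hn).eq

theorem PCA.cent (h : PCA G) (N : Subgroup G) [N.Normal] (hN : ¬ Group.IsSolvable N) {y : G}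
    (hy : ∀ n ∈ N, Commute n y) : y ∈ center G := by
  have := fact_two
  obtain ⟨P, hP⟩ := exists_sylowIn (p := 2) N
  obtain ⟨a, ha, b, hb, e⟩ := exists_nc hP hN
  have h1 := h (normalizer P) (fun e => hN (solv_norm hP (e ▸ le_top))) y (cent_norm fun n hn => hy n (hP.1 hn))
    a ha.2 b hb.2 (hy a ha.1) (hy b hb.1) e
  refine mem_center_iff.2 fun g => ?_
  obtain ⟨n, hn, m, hm, rfl⟩ := hP.frattini (H := ⊤) le_normalizer_of_normal (mem_top g)
  exact ((hy n hn).mul_left (mem_cent.1 (h1 hm))).eq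

theorem frob {Z A : Subgroup G} [Z.Normal] [Group.IsSolvable Z] (hZ : Z ≤ A) (h1 : ¬ A ≤ Z) (h2 : A ≠ ⊤)
    (h : ∀ g, g ∉ A → ∀ a ∈ A, g⁻¹ * a * g ∈ A → a ∈ Z) :
    ∃ K : Subgroup G, K.Normal ∧ Group.IsSolvable K ∧ K ⊔ A = ⊤ := by
  have hm : ∀ g, (QuotientGroup.mk' Z g) ∈ A.map (QuotientGroup.mk' Z) → g ∈ A := fun g hg => by
    have : g ∈ (A.map (QuotientGroup.mk' Z)).comap (QuotientGroup.mk' Z) := hg
    rwa [comap_map_eq_self (by rwa [QuotientGroup.ker_mk'])] at this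
  have hF : IsFrobeniusComplement (A.map (QuotientGroup.mk' Z)) := by
    refine ⟨fun e => h1 (by rwa [Subgroup.map_eq_bot_iff, QuotientGroup.ker_mk'] at e),
      fun e => h2 (eq_top_iff.2 fun g _ => hm g (e.ge (mem_top _))), fun g hg => eq_bot_iff.2 ?_⟩
    obtain ⟨g, rfl⟩ := QuotientGroup.mk'_surjective Z g
    rintro _ ⟨⟨a, ha, rfl⟩, h3⟩
    rw [← cj_eq_smul] at h3
    exact (QuotientGroup.eq_one_iff a).2 (h g (fun e => hg ⟨g, e, rfl⟩) a ha
      (hm _ (by simpa only [map_mul, map_inv] using mem_cj.1 h3)))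
  obtain ⟨N, -, hn, -, -, h3, h4⟩ := Coprime.exists_frobKernel hF
  have := BS.Fpf.nilpotent h3 le_normalizer_of_normal hF.1
  refine ⟨N.comap (QuotientGroup.mk' Z), inferInstance, isSolvable_comap_mk' Z N, ?_⟩
  have h5 := congrArg (comap (QuotientGroup.mk' Z)) h4
  rwa [← comap_sup_eq _ _ _ (QuotientGroup.mk'_surjective Z), comap_map_eq_self (by rwa [QuotientGroup.ker_mk']),
    comap_top] at h5

variable {x : G}

theorem Bad.ne_top (hx : Bad x) : centralizer ({x} : Set G) ≠ ⊤ := fun e =>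
  hx.1 (mem_center_iff.2 fun g => (mem_cent.1 (e.ge (mem_top g))).eq)

theorem Bad.conj (hx : Bad x) (g : G) : Bad (g * x * g⁻¹) := by
  obtain ⟨h1, a, b, h2, h3, h4⟩ := hx
  refine ⟨fun e => h1 (by simpa [mul_assoc] using (inferInstance : (center G).Normal).conj_mem _ e g⁻¹),
    g * a * g⁻¹, g * b * g⁻¹, h2.map (MulAut.conj g), h3.map (MulAut.conj g), fun e => h4 ?_⟩
  simpa [mul_assoc] using e.map (MulAut.conj g⁻¹)

theorem PCA.max (h : PCA G) (hx : Bad x) {H : Subgroup G} (h1 : centralizer {x} ≤ H) (h2 : H ≠ ⊤) :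
    H ≤ centralizer {x} := by
  obtain ⟨-, a, b, h3, h4, h5⟩ := hx
  exact h H h2 x (h1 (mem_cent.2 (.refl x))) a (h1 (mem_cent.2 h3)) b (h1 (mem_cent.2 h4)) h3 h4 h5

theorem exists_not_mem {H : Subgroup G} (h : H ≠ ⊤) : ∃ g, g ∉ H := by
  by_contra! e
  exact h (eq_top_iff.2 fun g _ => e g)

theorem PCA.selfnorm (h : PCA G) (hG : ¬ Group.IsSolvable G) (hx : Bad x) :
    normalizer (centralizer ({x} : Set G) : Set G) ≤ centralizer {x} := by
  refine h.max hx le_normalizer fun e => ?_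
  have : (centralizer ({x} : Set G)).Normal := normalizer_eq_top_iff.1 e
  by_cases hs : Group.IsSolvable (centralizer ({x} : Set G))
  · obtain ⟨g, hg⟩ := exists_not_mem hx.ne_top
    have h1 : centralizer {x} ⊔ zpowers g = ⊤ := by
      by_contra e
      exact hg (h.max hx le_sup_left e (mem_sup_right (mem_zpowers g)))
    have : Group.IsSolvable (zpowers g) := solv_comm (by rintro _ ⟨i, rfl⟩ _ ⟨j, rfl⟩; exact Commute.zpow_zpow_self g i j)
    exact hG (solv_top (h1 ▸ isSolvable_sup_of_normal _ _))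
  · exact hx.1 (h.cent _ hs fun n hn => mem_cent.1 hn)

theorem PCA.comm_of_eq (h : PCA G) (hG : ¬ Group.IsSolvable G) (hx : Bad x) {g : G}
    (e : ∀ y, Commute y x → Commute y (g * x * g⁻¹)) : Commute g x := by
  refine mem_cent.1 (inv_mem_iff.1 (h.selfnorm hG hx (mem_normalizer_of_cj_le (cj_le_iff.2 fun y hy => mem_cent.2 ?_))))
  simpa [mul_assoc] using (e y (mem_cent.1 hy)).map (MulAut.conj g⁻¹)

theorem PCA.inter (h : PCA G) (hG : ¬ Group.IsSolvable G) (hx : Bad x) {g a b : G} (hg : ¬ Commute g x)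
    (a1 : Commute a x) (b1 : Commute b x) (a2 : Commute a (g * x * g⁻¹)) (b2 : Commute b (g * x * g⁻¹)) :
    Commute a b := by
  by_contra hab
  set t := g * x * g⁻¹ with ht
  let K := centralizer ({x, t} : Set G)
  have hK : ∀ y, y ∈ K ↔ Commute y x ∧ Commute y t := fun y => by
    simp only [K, mem_centralizer_iff, Set.mem_insert_iff, Set.mem_singleton_iff, forall_eq_or_imp, forall_eq]
    exact ⟨fun e => ⟨e.1.symm, e.2.symm⟩, fun e => ⟨e.1.symm, e.2.symm⟩⟩
  let L := centralizer (K : Set G)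
  have xL : x ∈ L := fun y hy => ((hK y).1 hy).1
  have tL : t ∈ L := fun y hy => ((hK y).1 hy).2
  have aK := (hK a).2 ⟨a1, a2⟩
  have bK := (hK b).2 ⟨b1, b2⟩
  by_cases e : K ⊔ L = ⊤
  · have : K.Normal := normalizer_eq_top_iff.1 (eq_top_iff.2 (e.ge.trans (sup_le le_normalizer
      (centralizer_le_normalizer _))))
    have : L.Normal := inferInstance
    by_cases h1 : Group.IsSolvable K
    · by_cases h2 : Group.IsSolvable L
      · exact hG (solv_top (e ▸ isSolvable_sup_of_normal _ _))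
      · exact hab (mem_center_iff.1 (h.cent L h2 fun n hn => (hn a aK).symm) b).symm
    · exact hx.1 (h.cent K h1 fun n hn => ((hK n).1 hn).1)
  · have h1 := mem_cent.1 (h _ e x (mem_sup_right xL) a (mem_sup_left aK) b (mem_sup_left bK) a1 b1 hab (mem_sup_right tL))
    have h2 := h _ hx.ne_top t (mem_cent.2 h1) a (mem_cent.2 a1) b (mem_cent.2 b1) a2 b2 hab
    exact hg (h.comm_of_eq hG hx fun y hy => mem_cent.1 (h2 (mem_cent.2 hy)))

theorem PCA.solv_le (h : PCA G) (hG : ¬ Group.IsSolvable G) (hx : Bad x) (S : Subgroup G) [S.Normal]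
    [Group.IsSolvable S] : S ≤ centralizer {x} := by
  have := fact_two
  have key : ∀ B : Subgroup G, Group.IsSolvable B → x ∈ B → ∀ a ∈ B, ∀ b ∈ B, Commute a x → Commute b x →
      ¬ Commute a b → S ≤ centralizer {x} := fun B _ h1 a ha b hb h2 h3 h4 =>
    le_sup_left.trans (h (S ⊔ B) (fun e => hG (solv_top (e ▸ isSolvable_sup_of_normal _ _))) x (mem_sup_right h1)
      a (mem_sup_right ha) b (mem_sup_right hb) h2 h3 h4)
  by_cases hs : Group.IsSolvable (centralizer ({x} : Set G))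
  · obtain ⟨-, a, b, h3, h4, h5⟩ := hx
    exact key _ hs (mem_cent.2 (.refl x)) a (mem_cent.2 h3) b (mem_cent.2 h4) h3 h4 h5
  · obtain ⟨P, hP⟩ := exists_sylowIn (p := 2) (centralizer ({x} : Set G))
    obtain ⟨a, ha, b, hb, e⟩ := exists_nc hP hs
    exact key _ (solv_norm (hP.mono (le_inf hP.1 le_normalizer) inf_le_left) inf_le_right)
      ⟨mem_cent.2 (.refl x), cent_norm fun n hn => mem_cent.1 (hP.1 hn)⟩ a ha b hb (mem_cent.1 ha.1) (mem_cent.1 hb.1) e

theorem PCA.rad (h : PCA G) (hG : ¬ Group.IsSolvable G) (hx : Bad x) (S : Subgroup G) [S.Normal]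
    [Group.IsSolvable S] : S ≤ center G := by
  let A := (centralizer ({x} : Set G)).normalCore
  have hS : ∀ (S : Subgroup G) [S.Normal] [Group.IsSolvable S], S ≤ A := fun S _ _ =>
    normal_le_normalCore.2 (h.solv_le hG hx S)
  have hA : ∀ a ∈ A, ∀ g, Commute a (g * x * g⁻¹) := fun a ha g => by
    simpa [mul_assoc] using (mem_cent.1 (ha g⁻¹)).map (MulAut.conj g)
  have hA1 : ∀ a ∈ A, Commute a x := fun a ha => mem_cent.1 (normalCore_le _ ha)
  obtain ⟨g₀, hg₀⟩ := exists_not_mem hx.ne_top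
  have hc : ∀ a ∈ A, ∀ b ∈ A, Commute a b := fun a ha b hb =>
    h.inter hG hx (fun e => hg₀ (mem_cent.2 e)) (hA1 a ha) (hA1 b hb) (hA a ha _) (hA b hb _)
  by_cases hK : Group.IsSolvable (centralizer (A : Set G))
  · have h1 := hS (centralizer (A : Set G))
    have := solv_comm hc
    obtain ⟨K, _, _, h2⟩ := frob (Z := A) (A := centralizer {x}) (normalCore_le _) (fun e => by
      obtain ⟨-, a, b, h3, h4, h5⟩ := hx
      exact h5 (hc a (e (mem_cent.2 h3)) b (e (mem_cent.2 h4)))) hx.ne_top fun g hg a ha h3 => h1 fun b hb =>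
        (h.inter hG hx (fun e => hg (mem_cent.2 e)) (hA1 b hb) (mem_cent.1 ha) (hA b hb g)
          (by simpa [mul_assoc] using (mem_cent.1 h3).map (MulAut.conj g))).eq
    exact absurd (eq_top_iff.2 (h2.ge.trans (sup_le (h.solv_le hG hx K) le_rfl))) hx.ne_top
  · exact fun s hs => h.cent _ hK fun n hn => (hn s (hS S hs)).symm

end Cfsg.Lib.MinCA
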