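import Cfsg.Agent.Lib.MinCA.M1

/-! Minimal non-CA groups, II: bad `2`-elements, proper nonsolvable normal subgroups. -/

set_option autoImplicit false
set_option linter.unusedSectionVars false

namespace Cfsg.Lib.MinCA
open Subgroup Cfsg.Lib.Core Cfsg.Lib.Transfer Cfsg.Lib.Invol

variable {G : Type*} [Group G] [Finite G] {x : G}

theorem p_part {p : ℕ} (hp : p.Prime) (y : G) : ∃ m k, ¬ p ∣ m ∧ (y ^ m) ^ p ^ k = 1 := by
  obtain ⟨k, m, h1, h2⟩ := Nat.exists_eq_pow_mul_and_not_dvd (orderOf_pos y).ne' p hp.ne_one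
  exact ⟨m, k, h1, by rw [← pow_mul, mul_comm, ← h2, pow_orderOf_eq_one]⟩

theorem Bad.prime (hx : Bad x) : ∃ (y : G) (p k : ℕ), p.Prime ∧ Bad y ∧ y ^ p ∈ center G ∧ y ^ p ^ k = 1 := by
  obtain ⟨h1, a, b, h2, h3, h4⟩ := hx
  let f := QuotientGroup.mk' (center G)
  have hf : ∀ g, f g = 1 ↔ g ∈ center G := fun g => QuotientGroup.eq_one_iff g
  obtain ⟨p, hp, n, hn⟩ := Nat.exists_prime_and_dvd (n := orderOf (f x)) fun e => h1 ((hf x).1 (orderOf_eq_one_iff.1 e))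
  obtain ⟨m, k, h5, h6⟩ := p_part hp (x ^ n)
  refine ⟨(x ^ n) ^ m, p, k, hp, ⟨fun e => h5 ?_, a, b, (h2.pow_right n).pow_right m, (h3.pow_right n).pow_right m, h4⟩,
    (hf _).1 ?_, h6⟩
  · have := (hf _).2 e
    rw [← pow_mul, map_pow, ← orderOf_dvd_iff_pow_eq_one, hn, mul_comm p] at this
    exact Nat.dvd_of_mul_dvd_mul_left (Nat.pos_of_ne_zero fun e => (orderOf_pos (f x)).ne' (by rw [hn, e, mul_zero])) this
  · rw [← pow_mul, ← pow_mul, map_pow, ← orderOf_dvd_iff_pow_eq_one, hn]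
    exact ⟨m, by ring⟩

theorem solv_center : Group.IsSolvable (center G) := solv_comm fun _ ha b _ => (mem_center_iff.1 ha b).symm

theorem PCA.iso (h : PCA G) (hG : ¬ Group.IsSolvable G) {y : G} (hy : Bad y) {k : ℕ} (h2 : x ^ 2 ^ k = 1)
    (hi : IsIsolated x) : x ∈ center G := by
  have : (pPrimeCore 2 G).Normal := inferInstance
  have := FT.solvable_of_not_two_dvd _ (not_dvd_card_pPrimeCore (G := G) Nat.prime_two)
  refine mem_center_iff.2 fun g => ?_
  have h3 := Block.z_star_elt h2 hi g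
  have h4 : Commute (g * x * g⁻¹ * x⁻¹) x := (mem_center_iff.1 (h.rad hG hy _ h3) x).symm
  have h5 : (g * x * g⁻¹ * x⁻¹) ^ 2 ^ k = 1 := by
    have := h4.mul_pow (2 ^ k)
    rwa [inv_mul_cancel_right, conj_pow, h2, mul_one, mul_inv_cancel, mul_one, eq_comm] at this
  have h6 : g * x * g⁻¹ * x⁻¹ = 1 := orderOf_eq_one_iff.1 (Nat.eq_one_of_dvd_coprimes
    ((coprime_card_pPrimeCore 2 G).pow_right k) (Subgroup.orderOf_dvd_natCard _ h3) (orderOf_dvd_of_pow_eq_one h5))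
  rw [← mul_inv_eq_one, mul_inv_rev, ← mul_assoc, h6]

theorem PCA.step (h : PCA G) (hG : ¬ Group.IsSolvable G) (hx : Bad x) {t : G} {U : Subgroup G} (h1 : x ∈ U) (h2 : t ∈ U)
    (hU : SylowIn 2 U (centralizer {x} ⊓ centralizer {t})) (hn : ¬ SylowIn 2 U (centralizer {x})) :
    normalizer (U : Set G) ≤ centralizer {x} ∧ ¬ normalizer (U : Set G) ≤ centralizer {t} := by
  have := fact_two
  obtain ⟨T, h3, hT⟩ := exists_sylowIn_ge hU.2 (hU.1.trans inf_le_left)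
  obtain ⟨u, ⟨u1, u2⟩, u3⟩ := SetLike.exists_of_lt (lt_inf_normalizer hT.2 (lt_of_le_of_ne h3 fun e => hn (e ▸ hT)))
  have h4 : ¬ Commute u t := fun e => u3 ((hU.eq_of_le (Q := T ⊓ centralizer {t}) hT.2.to_inf_left
    (le_inf h3 (hU.1.trans inf_le_right)) (inf_le_inf_right _ hT.1)).le ⟨u1, mem_cent.2 e⟩)
  refine ⟨h _ (fun e => ?_) x (le_normalizer h1) u u2 t (le_normalizer h2) (mem_cent.1 (hT.1 u1))
    (mem_cent.1 (hU.1 h2).1) h4, fun e => h4 (mem_cent.1 (e u2))⟩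
  have : U.Normal := normalizer_eq_top_iff.1 e
  have := isSolvable_of_isPGroup Nat.prime_two hU.2
  exact hx.1 (h.rad hG hx U h1)

theorem comm_of_cj {g : G} {P U : Subgroup G} (h : cj g P ≤ U) (hU : ∀ a ∈ U, ∀ b ∈ U, Commute a b) :
    ∀ a ∈ P, ∀ b ∈ P, Commute a b := fun a ha b hb => by
  simpa [mul_assoc] using (hU _ (cj_le_iff.1 h a ha) _ (cj_le_iff.1 h b hb)).map (MulAut.conj g⁻¹)

theorem mem_syl {H U : Subgroup G} (hU : SylowIn 2 U H) {k : ℕ} (h2 : x ^ 2 ^ k = 1) (h1 : x ∈ H)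
    (h : ∀ u ∈ U, Commute u x) : x ∈ U := by
  have := fact_two
  refine hU.le_of_le_normalizer (isPGroup_zpowers h2) (zpowers_le.2 h1) (fun u hu => cent_norm ?_) (mem_zpowers x)
  rintro _ ⟨i, rfl⟩
  exact (h u hu).symm.zpow_left i

theorem PCA.two_comm (h : PCA G) (hG : ¬ Group.IsSolvable G) (hx : Bad x) {k : ℕ} (h2 : x ^ 2 ^ k = 1)
    {P : Subgroup G} (hP : IsPGroup 2 P) (hc : P ≤ centralizer {x}) : ∀ a ∈ P, ∀ b ∈ P, Commute a b := by
  have := fact_two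
  obtain ⟨g, h3, h4⟩ : ∃ g, Commute x (g * x * g⁻¹) ∧ g * x * g⁻¹ ≠ x := by
    by_contra! e
    exact hx.1 (h.iso hG hx h2 e)
  have hg : ¬ Commute g x := fun e => h4 (by rw [e.eq, mul_inv_cancel_right])
  obtain ⟨U, hU⟩ := exists_sylowIn (p := 2) (centralizer ({x} : Set G) ⊓ centralizer {g * x * g⁻¹})
  have x1 : x ∈ U := mem_syl hU h2 ⟨mem_cent.2 (.refl x), mem_cent.2 h3⟩ fun u hu => mem_cent.1 (hU.1 hu).1
  have t1 : g * x * g⁻¹ ∈ U := mem_syl hU (k := k) (by rw [conj_pow, h2, mul_one, mul_inv_cancel])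
    ⟨mem_cent.2 h3.symm, mem_cent.2 (.refl _)⟩ fun u hu => mem_cent.1 (hU.1 hu).2
  have hs : SylowIn 2 U (centralizer {x}) := by
    by_contra hn
    refine (h.step hG hx x1 t1 hU hn).2 (h.step hG (hx.conj g) t1 x1 (by rwa [inf_comm]) fun e => hn ?_).1
    obtain ⟨T, hT⟩ := exists_sylowIn (p := 2) (centralizer ({x} : Set G))
    refine hT.of_card_le (hU.1.trans inf_le_left) hU.2 ?_
    rw [← card_cj g T]
    exact e.card_le (isPGroup_cj g hT.2) (cj_le_iff.2 fun y hy =>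
      mem_cent.2 ((mem_cent.1 (hT.1 hy)).map (MulAut.conj g)))
  obtain ⟨c, -, h5⟩ := hs.exists_cj_le hP hc
  exact comm_of_cj h5 fun a ha b hb => h.inter hG hx hg (mem_cent.1 (hU.1 ha).1) (mem_cent.1 (hU.1 hb).1)
    (mem_cent.1 (hU.1 ha).2) (mem_cent.1 (hU.1 hb).2)

theorem exists_sq {U : Subgroup G} {u : G} (hu : u ∉ U) (k : ℕ) (h : u ^ 2 ^ k ∈ U) :
    ∃ j, u ^ j ∉ U ∧ u ^ j * u ^ j ∈ U := by
  induction k with
  | zero => exact absurd (by simpa using h) hu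
  | succ k ih =>
    by_cases e : u ^ 2 ^ k ∈ U
    · exact ih e
    · exact ⟨_, e, by rwa [← pow_add, ← two_mul, ← pow_succ']⟩

theorem PCA.two_ab (h : PCA G) (hG : ¬ Group.IsSolvable G) (hx : Bad x) {k : ℕ} (h2 : x ^ 2 ^ k = 1)
    {P : Subgroup G} (hP : IsPGroup 2 P) : ∀ a ∈ P, ∀ b ∈ P, Commute a b := by
  have := fact_two
  obtain ⟨U, hU⟩ := exists_sylowIn (p := 2) (centralizer ({x} : Set G))
  have x1 : x ∈ U := mem_syl hU h2 (mem_cent.2 (.refl x)) fun u hu => mem_cent.1 (hU.1 hu)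
  have hc := h.two_comm hG hx h2 hU.2 hU.1
  obtain ⟨T, h3, hT⟩ := exists_sylowIn_ge (H := ⊤) hU.2 le_top
  rcases h3.eq_or_lt with rfl | h4
  · obtain ⟨c, -, h5⟩ := hT.exists_cj_le hP le_top
    exact comm_of_cj h5 hc
  exfalso
  obtain ⟨u, u1, u3⟩ := SetLike.exists_of_lt (lt_inf_normalizer hT.2 h4)
  obtain ⟨i, hi⟩ := isPGroup_iff_forall_mem.1 hT.2 u u1.1
  obtain ⟨j, v3, v4⟩ := exists_sq u3 i (hi ▸ one_mem U)
  obtain ⟨v1, v2⟩ := pow_mem u1 j
  set v := u ^ j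
  have h5 : ¬ Commute v x := fun e => v3 ((hU.eq_of_le (Q := T ⊓ centralizer {x}) hT.2.to_inf_left
    (le_inf h3 hU.1) inf_le_right).le ⟨v1, mem_cent.2 e⟩)
  have t1 := Transfer.conj_mem_of_mem_normalizer v2 x1
  have y1 := mul_mem x1 t1
  have h6 : Commute v (x * (v * x * v⁻¹)) := by
    have e1 := (hc _ v4 _ x1).eq
    have e2 := (hc _ x1 _ t1).eq
    calc v * (x * (v * x * v⁻¹)) = v * x * v⁻¹ * (v * v * x) * v⁻¹ := by group
      _ = v * x * v⁻¹ * x * v := by rw [e1]; group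
      _ = _ := by rw [← e2]
  by_cases hy : x * (v * x * v⁻¹) ∈ center G
  · refine h5 (h.comm_of_eq hG hx fun c hc => ?_)
    have : Commute c (x * (v * x * v⁻¹)) := mem_center_iff.1 hy c
    simpa using hc.inv_right.mul_right this
  · obtain ⟨l, hl⟩ := isPGroup_iff_forall_mem.1 hU.2 _ y1
    exact h5 (h.two_comm hG ⟨hy, v, x, h6, hc _ x1 _ y1, h5⟩ hl (P := T ⊓ centralizer _) hT.2.to_inf_left inf_le_right
      v ⟨v1, mem_cent.2 h6⟩ x ⟨h3 x1, mem_cent.2 (hc _ x1 _ y1)⟩)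

theorem PCA.index_dvd (h : PCA G) (hG : ¬ Group.IsSolvable G) (hx : Bad x) {p : ℕ} (hp : p.Prime)
    (h1 : x ^ p ∈ center G) (N : Subgroup G) [N.Normal] (hZ : center G ≤ N) (hN : ¬ Group.IsSolvable N) :
    N.index ∣ p := by
  by_cases hT : N = ⊤
  · simp [hT]
  have := solv_center (G := G)
  by_cases hab : ∃ a ∈ N, ∃ b ∈ N, Commute a x ∧ Commute b x ∧ ¬ Commute a b
  · obtain ⟨a, ha, b, hb, h2, h3, h4⟩ := hab
    have h5 : N ⊔ zpowers x = ⊤ := by
      by_contra e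
      exact hx.1 (h.cent N hN fun n hn => mem_cent.1 (h _ e x (mem_sup_right (mem_zpowers x)) a (mem_sup_left ha)
        b (mem_sup_left hb) h2 h3 h4 (mem_sup_left hn)))
    have h6 : ∀ y : G ⧸ N, y ∈ zpowers (QuotientGroup.mk' N x) := fun y => by
      obtain ⟨g, rfl⟩ := QuotientGroup.mk'_surjective N y
      have : N ⊔ zpowers x ≤ (zpowers (QuotientGroup.mk' N x)).comap (QuotientGroup.mk' N) :=
        sup_le (fun n hn => by
          rw [mem_comap, QuotientGroup.mk'_apply N n, (QuotientGroup.eq_one_iff n).2 hn]; exact one_mem _)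
          (zpowers_le.2 (mem_comap.2 (mem_zpowers _)))
      exact this (h5.ge (mem_top g))
    rw [index_eq_card, ← orderOf_eq_card_of_forall_mem_zpowers h6, orderOf_dvd_iff_pow_eq_one, ← map_pow]
    exact (QuotientGroup.eq_one_iff _).2 (hZ h1)
  push Not at hab
  exfalso
  let A := N ⊓ centralizer {x}
  have hA : ∀ a ∈ A, ∀ b ∈ A, Commute a b := fun a ha b hb => hab a ha.1 b hb.1 (mem_cent.1 ha.2) (mem_cent.1 hb.2)
  by_cases hAZ : A ≤ center G
  · let f := QuotientGroup.mk' (center G)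
    have := Fact.mk hp
    have h2 : orderOf (f x) = p := orderOf_eq_prime (by rw [← map_pow]; exact (QuotientGroup.eq_one_iff _).2 h1)
      fun e => hx.1 ((QuotientGroup.eq_one_iff _).1 e)
    have : (N.map f).Normal := Normal.map ‹_› _ (QuotientGroup.mk'_surjective _)
    have := BS.thompson_fpf (K := N.map f) (r := f x) (le_normalizer_of_normal (mem_top _)) (h2 ▸ hp) (eq_bot_iff.2 (by
      rintro _ ⟨⟨n, hn, rfl⟩, h3⟩
      refine (QuotientGroup.eq_one_iff _).2 (hAZ ⟨hn, mem_cent.2 (h.comm_of_eq hG hx fun c hc => ?_)⟩)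
      have h4 : n * x * n⁻¹ * x⁻¹ ∈ center G := (QuotientGroup.eq_one_iff _).1 (show f _ = 1 by
        rw [map_mul, map_mul, map_mul, (mem_cent.1 h3).eq, map_inv, map_inv]; group)
      have : Commute c (n * x * n⁻¹ * x⁻¹) := mem_center_iff.1 h4 c
      simpa using this.mul_right hc))
    have := isSolvable_comap_mk' (center G) (N.map f)
    exact hN (isSolvable_of_le (le_comap_map f N))
  have h2 : normalizer (A : Set G) ≤ centralizer {x} := by
    refine h.max hx (fun c hc => mem_normalizer_of_cj_le (cj_le_iff.2 fun a ha => ⟨‹N.Normal›.conj_mem a ha.1 c,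
      (centralizer _).mul_mem (mul_mem hc ha.2) (inv_mem hc)⟩)) fun e => ?_
    have : A.Normal := normalizer_eq_top_iff.1 e
    have := solv_comm hA
    exact hAZ (h.rad hG hx A)
  have := isSolvable_subgroupOf (center G) N
  have hA' : Group.IsSolvable (A.subgroupOf N) := have := solv_comm hA; isSolvable_subgroupOf A N
  obtain ⟨K, _, _, h3⟩ := frob (Z := (center G).subgroupOf N) (A := A.subgroupOf N)
    (fun z hz => ⟨z.2, mem_cent.2 (mem_center_iff.1 hz x).symm⟩) (fun e => hAZ fun a ha => e (show (⟨a, ha.1⟩ : N) ∈ _ from ha))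
    (fun e => hN (solv_top (e ▸ hA'))) fun g hg a ha h3 => by
      by_contra h4
      have h5 : ∀ b ∈ N, ∀ c ∈ N, Commute b a → Commute c a → Commute b c := fun b hb c hc e1 e2 => by
        by_contra e
        exact h4 (h.cent N hN fun n hn => mem_cent.1 (h N hT a a.2 b hb c hc e1 e2 e hn))
      have h6 : ∀ c ∈ N, Commute c a → c ∈ A := fun c hc e =>
        ⟨hc, h2 (cent_norm fun n hn => h5 n hn.1 c hc (hA n hn a ha) e)⟩
      refine hg ⟨g.2, h2 (mem_normalizer_of_cj_le (cj_le_iff.2 fun b hb => h6 _ (‹N.Normal›.conj_mem b hb.1 g) ?_))⟩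
      simpa [mul_assoc] using (hA b hb _ h3).map (MulAut.conj g.1)
  exact hN (solv_top (h3 ▸ isSolvable_sup_of_normal _ _))

end Cfsg.Lib.MinCA
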