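import Cfsg.Agent.Lib.MinCA.M1
import Cfsg.Agent.Lib.Exc.TwoNil

/-! Minimal non-CA groups, III: identification of the simple central quotient. -/

set_option autoImplicit false
set_option linter.unusedSectionVars false

namespace Cfsg.Lib.MinCA
open Subgroup Cfsg.Lib.Core Cfsg.Lib.Transfer Cfsg.Lib.Invol

section
variable {X S : Type*} [Group X] [Finite X] [Group S] {f : X →* S}

theorem cz_pow {c t z : X} (hz : z ∈ center X) (e : c * t = z * (t * c)) (n : ℕ) : c ^ n * t = z ^ n * (t * c ^ n) := by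
  induction n with
  | zero => simp
  | succ n ih =>
    rw [pow_succ' c, mul_assoc, ih, ← mul_assoc, mem_center_iff.1 (pow_mem hz n) c, mul_assoc, ← mul_assoc c, e, pow_succ z]
    simp only [mul_assoc]

theorem comm_pow (hk : ∀ g, f g = 1 → g ∈ center X) {c t : X} (h : Commute (f c) (f t)) {n : ℕ} (hn : t ^ n ∈ center X) :
    Commute (c ^ n) t := by
  have hz : c * t * c⁻¹ * t⁻¹ ∈ center X := hk _ (by rw [map_mul, map_mul, map_mul, h.eq, map_inv, map_inv]; group)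
  set z := c * t * c⁻¹ * t⁻¹ with h1
  have e : c * t = z * (t * c) := by rw [h1]; group
  have e2 := cz_pow (c := t) (t := c) (inv_mem hz) (by rw [e]; group) n
  rw [← mem_center_iff.1 hn c, right_eq_mul, inv_pow, inv_eq_one] at e2
  exact (cz_pow hz e n).trans (by rw [e2, one_mul])

theorem comm_cop (hk : ∀ g, f g = 1 → g ∈ center X) {c t : X} (h : Commute (f c) (f t)) (h2 : f t ^ 2 = 1)
    {n : ℕ} (hn : f c ^ n = 1) (ho : Odd n) : Commute c t := by
  obtain ⟨k, rfl⟩ := ho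
  have h1 := (comm_pow hk h (hk (t ^ 2) (by rwa [map_pow]))).pow_left k
  have h3 : Commute (c ^ (2 * k + 1)) t := (mem_center_iff.1 (hk _ (by rwa [map_pow])) t).symm
  simpa [pow_succ, pow_mul] using h1.inv_left.mul_left h3

theorem lift2 (hf : Function.Surjective f) {s : S} {j : ℕ} (hs : s ^ 2 ^ j = 1) : ∃ y k, f y = s ∧ y ^ 2 ^ k = 1 := by
  obtain ⟨y, rfl⟩ := hf s
  obtain ⟨k, m, h1, h2⟩ := Nat.exists_eq_pow_mul_and_not_dvd (orderOf_pos y).ne' 2 (by norm_num)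
  obtain ⟨n, hn⟩ := exists_pow_eq_self_of_coprime (x := f y) (n := m) ((((Nat.prime_two.coprime_iff_not_dvd).2 h1).symm.pow_right
    j).coprime_dvd_right (orderOf_dvd_of_pow_eq_one hs))
  exact ⟨(y ^ m) ^ n, k, by rw [map_pow, map_pow, hn], by
    rw [← pow_mul, mul_comm n, pow_mul, ← pow_mul y, mul_comm m, ← h2, pow_orderOf_eq_one, one_pow]⟩

/-- central extension without bad `2`-elements -/
structure Cov (f : X →* S) : Prop where
  surj : Function.Surjective f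
  ker : ∀ g, f g = 1 ↔ g ∈ center X
  nb : ∀ (t : X) (k : ℕ), t ^ 2 ^ k = 1 → ¬ Bad t

theorem Cov.comm (h : Cov f) {t a b : X} {k : ℕ} (h1 : t ^ 2 ^ k = 1) (h2 : f t ≠ 1) (ha : Commute a t) (hb : Commute b t) :
    Commute a b := by
  by_contra e
  exact h.nb t k h1 ⟨fun e => h2 ((h.ker t).2 e), a, b, ha, hb, e⟩

theorem Cov.four (h : Cov f) {t c : X} (h1 : f t ^ 2 = 1) (h2 : f c ^ 4 = 1) (h3 : f c ^ 2 ≠ 1) (h4 : Commute (f c) (f t)) :
    Commute c t := by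
  obtain ⟨d, k, e, hd⟩ := lift2 h.surj (s := f c) (j := 2) h2
  have h5 : Commute d t := h.comm (t := d ^ 2) (k := k) (by rw [← pow_mul, mul_comm, pow_mul, hd, one_pow])
    (by rwa [map_pow, e]) (Commute.self_pow d 2)
    (comm_pow (fun g => (h.ker g).1) (e ▸ h4) ((h.ker _).1 (by rwa [map_pow]))).symm
  have h6 : Commute (d⁻¹ * c) t := (mem_center_iff.1 ((h.ker _).1 (by simp [e])) t).symm
  simpa using h5.mul_left h6

theorem Cov.no4 (h : Cov f) {t c d : S} (h0 : t ≠ 1) (h1 : t ^ 2 = 1) (c1 : c ^ 4 = 1) (c2 : c ^ 2 ≠ 1) (c3 : Commute c t)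
    (d1 : d ^ 4 = 1) (d2 : d ^ 2 ≠ 1) (d3 : Commute d t) : Commute c d := by
  obtain ⟨t, k, rfl, ht⟩ := lift2 h.surj (s := t) (j := 1) h1
  obtain ⟨c, rfl⟩ := h.surj c
  obtain ⟨d, rfl⟩ := h.surj d
  exact (h.comm ht h0 (h.four h1 c1 c2 c3) (h.four h1 d1 d2 d3)).map f

theorem Cov.no7 [Finite S] [IsSimpleGroup S] (h : Cov f) (hp : PCA X) {t c v x s : S} (h0 : t ≠ 1) (h1 : t ^ 2 = 1)
    (c1 : c ^ 4 = 1) (c2 : c ^ 2 ≠ 1) (c3 : Commute c t) (c4 : ¬ Commute c v) (v1 : v ^ 2 = 1) (x1 : x ^ 3 = 1)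
    (x2 : Commute x t) (x3 : Commute x v) (s1 : s * x * s⁻¹ = x⁻¹) (s2 : ¬ Commute s x) : False := by
  obtain ⟨t, k, rfl, ht⟩ := lift2 h.surj (s := t) (j := 1) h1
  obtain ⟨c, rfl⟩ := h.surj c
  obtain ⟨v, rfl⟩ := h.surj v
  obtain ⟨x, rfl⟩ := h.surj x
  obtain ⟨s, rfl⟩ := h.surj s
  have h2 : ¬ Commute v t := fun e => c4 ((h.comm ht h0 (h.four h1 c1 c2 c3) e).map f)
  have h3 : ∀ y, Commute (f x) y → y ∈ normalizer (zpowers (f x) : Set S) := fun y e => cent_norm (by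
    rintro _ ⟨i, rfl⟩
    exact e.zpow_left i)
  refine s2 ((mem_cent.1 (hp ((normalizer (zpowers (f x) : Set S)).comap f) (fun e => ?_) x (h3 _ (.refl _)) v (h3 _ x3)
    t (h3 _ x2) (comm_cop (fun g => (h.ker g).1) x3 v1 x1 (by decide)).symm
    (comm_cop (fun g => (h.ker g).1) x2 h1 x1 (by decide)).symm h2
    (mem_normalizer_of_cj_le (cj_le_iff.2 ?_)))).map f)
  · have : (zpowers (f x)).Normal := normalizer_eq_top_iff.1 (eq_top_iff.2 fun y _ => by
      obtain ⟨y, rfl⟩ := h.surj y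
      exact e.ge (mem_top y))
    rcases this.eq_bot_or_eq_top with e1 | e1
    · exact s2 (by rw [zpowers_eq_bot.1 e1]; exact Commute.one_right _)
    · obtain ⟨i, hi⟩ := e1.ge (mem_top (f s))
      exact s2 (hi ▸ Commute.zpow_self _ i)
  · rintro _ ⟨i, rfl⟩
    rw [← conj_zpow, s1]
    exact zpow_mem (inv_mem (mem_zpowers _)) i

theorem Cov.pnil [Finite S] (h : Cov f) (t : S) (ht : orderOf t = 2) : PNil 2 (centralizer ({t} : Set S)) := by
  have h1 : t ^ 2 = 1 := ht ▸ pow_orderOf_eq_one t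
  obtain ⟨t, k, rfl, hk⟩ := lift2 h.surj (s := t) (j := 1) h1
  have key : ∀ a b : S, Commute a (f t) → Commute b (f t) → (orderOf a).Coprime 2 → (orderOf b).Coprime 2 →
      Commute a b := fun a b a1 b1 a2 b2 => by
    obtain ⟨a, rfl⟩ := h.surj a
    obtain ⟨b, rfl⟩ := h.surj b
    exact (h.comm hk (ne_one_of_two ht)
      (comm_cop (fun g => (h.ker g).1) a1 h1 (pow_orderOf_eq_one _) (Nat.coprime_two_right.1 a2))
      (comm_cop (fun g => (h.ker g).1) b1 h1 (pow_orderOf_eq_one _) (Nat.coprime_two_right.1 b2))).map f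
  let K : Subgroup S :=
    { carrier := {g | Commute g (f t) ∧ (orderOf g).Coprime 2}
      one_mem' := ⟨Commute.one_left _, by simp⟩
      inv_mem' := fun hg => ⟨hg.1.inv_left, by rw [orderOf_inv]; exact hg.2⟩
      mul_mem' := fun ha hb => ⟨ha.1.mul_left hb.1, (ha.2.mul_left hb.2).coprime_dvd_left
        (key _ _ ha.1 hb.1 ha.2 hb.2).orderOf_mul_dvd_mul_orderOf⟩ }
  intro hd
  have := fact_two
  obtain ⟨y, hy⟩ := exists_prime_orderOf_dvd_card' 2 hd
  have h2 : y.1 ∈ K := (resOf_le_iff (K := K)).2 (fun g hg e => And.intro (mem_cent.1 hg) e) y.2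
  have h3 := h2.2
  rw [orderOf_coe, hy] at h3
  norm_num at h3

theorem Cov.equiv {S' : Type*} [Group S'] (h : Cov f) (e : S ≃* S') : Cov (e.toMonoidHom.comp f) :=
  ⟨e.surjective.comp h.surj, fun g => by simpa using h.ker g, h.nb⟩

theorem m7 (g : Equiv.Perm (Fin 7)) (h : Equiv.Perm.sign g = 1) : g ∈ alternatingGroup (Fin 7) :=
  Equiv.Perm.mem_alternatingGroup.2 h

open Equiv in
theorem Cov.not_alt {f : X →* alternatingGroup (Fin 7)} (h : Cov f) (hp : PCA X) : False := by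
  have := alternatingGroup.isSimpleGroup (α := Fin 7) (by simp)
  exact h.no7 hp (t := ⟨swap 3 4 * swap 5 6, m7 _ (by decide)⟩) (c := ⟨swap 0 1 * swap 3 5 * swap 5 4 * swap 4 6, m7 _ (by decide)⟩)
    (v := ⟨swap 3 5 * swap 4 6, m7 _ (by decide)⟩) (x := ⟨swap 0 1 * swap 1 2, m7 _ (by decide)⟩)
    (s := ⟨swap 0 1 * swap 3 4, m7 _ (by decide)⟩) (by decide) (by decide) (by decide) (by decide)
    (by unfold Commute SemiconjBy; decide) (by unfold Commute SemiconjBy; decide) (by decide) (by decide)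
    (by unfold Commute SemiconjBy; decide) (by unfold Commute SemiconjBy; decide) (by decide)
    (by unfold Commute SemiconjBy; decide)

open BN.Sz in
theorem Cov.not_sz {F : Type*} [Field F] [Fintype F] {m : ℕ} [SzField F m] {f : X →* Cfsg.Sz F m} (h : Cov f) : False := by
  obtain ⟨a, ha⟩ := exists_σ_ne (F := F) m
  have a0 : a ≠ 0 := fun e => ha (by simp [e])
  have h4 : ∀ b : F, b ≠ 0 → U m b 0 ^ 4 = 1 ∧ U m b 0 ^ 2 ≠ 1 ∧ Commute (U m b 0) (U m 0 1) := fun b hb =>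
    ⟨orderOf_dvd_iff_pow_eq_one.1 (orderOf_U m hb 0).dvd, fun e => by
      have := orderOf_dvd_of_pow_eq_one e
      rw [orderOf_U m hb 0] at this
      norm_num at this, (U_comm_iff m).2 (by simp)⟩
  have h2 := orderOf_U_zero m (one_ne_zero (α := F))
  have := (U_comm_iff m).1 (h.no4 (ne_one_of_two h2) (h2 ▸ pow_orderOf_eq_one _) (h4 a a0).1 (h4 a a0).2.1 (h4 a a0).2.2
    (h4 1 one_ne_zero).1 (h4 1 one_ne_zero).2.1 (h4 1 one_ne_zero).2.2)
  exact ha (by simpa using this)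

/-- unitriangular matrices -/
def ut {F : Type*} [Field F] (a b c : F) : Matrix.SpecialLinearGroup (Fin 3) F :=
  ⟨!![1, a, c; 0, 1, b; 0, 0, 1], by simp [Matrix.det_fin_three]⟩

theorem ut_mul {F : Type*} [Field F] (a b c a' b' c' : F) :
    ut a b c * ut a' b' c' = ut (a + a') (b + b') (c + c' + a * b') := by
  ext i j
  rw [Matrix.SpecialLinearGroup.coe_mul]
  fin_cases i <;> fin_cases j <;> simp [ut, Matrix.mul_apply, Fin.sum_univ_three] <;> ring

theorem Cov.not_psl3 {F : Type*} [Field F] [Fintype F] (hF : Fintype.card F = 4)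
    {f : X →* Matrix.ProjectiveSpecialLinearGroup (Fin 3) F} (h : Cov f) : False := by
  classical
  have := fact_two
  have : CharP F 2 := charP_of_card_eq_prime_pow (f := 2) hF
  let π := QuotientGroup.mk' (center (Matrix.SpecialLinearGroup (Fin 3) F))
  have h0 : ∀ c : F, π (ut 0 0 c) = 1 → c = 0 := fun c e => by
    obtain ⟨r, -, hr⟩ := Matrix.SpecialLinearGroup.mem_center_iff.1 ((QuotientGroup.eq_one_iff _).1 e)
    simpa [ut] using (congrFun (congrFun hr 0) 2).symm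
  have h1 : ut (0 : F) 0 0 = 1 := by
    ext i j
    fin_cases i <;> fin_cases j <;> simp [ut]
  have h2 : ∀ b : F, π (ut 1 b 0) ^ 2 = π (ut 0 0 b) := fun b => by
    rw [← map_pow, sq, ut_mul]; simp [CharTwo.add_self_eq_zero]
  have h3 : ∀ b : F, π (ut 0 0 b) ^ 2 = 1 := fun b => by
    rw [← map_pow, sq, ut_mul]; simp [CharTwo.add_self_eq_zero, h1]
  have h4 : ∀ b : F, b ≠ 0 → π (ut 1 b 0) ^ 4 = 1 ∧ π (ut 1 b 0) ^ 2 ≠ 1 ∧ Commute (π (ut 1 b 0)) (π (ut 0 0 1)) :=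
    fun b hb => ⟨by rw [show 4 = 2 * 2 from rfl, pow_mul, h2, h3], fun e => hb (h0 b (h2 b ▸ e)),
      Commute.map (by simp [Commute, SemiconjBy, ut_mul]) π⟩
  obtain ⟨w, hw⟩ : ∃ w : F, w ∉ ({0, 1} : Finset F) := by
    by_contra! e
    have := Finset.card_le_card (s := Finset.univ) fun w _ => e w
    have := Finset.card_le_two (a := (0 : F)) (b := 1)
    rw [Finset.card_univ] at *
    omega
  simp only [Finset.mem_insert, Finset.mem_singleton, not_or] at hw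
  have h5 := (h.no4 (fun e => one_ne_zero (h0 1 e)) (h3 1) (h4 1 one_ne_zero).1 (h4 1 one_ne_zero).2.1
    (h4 1 one_ne_zero).2.2 (h4 w hw.1).1 (h4 w hw.1).2.1 (h4 w hw.1).2.2).eq
  have h6 : ut 1 1 0 * ut 1 w 0 = ut 0 0 (w - 1) * (ut 1 w 0 * ut 1 1 0) := by
    simp [ut_mul, add_comm]
  rw [← map_mul, h6, map_mul, map_mul, mul_eq_right] at h5
  exact hw.2 (sub_eq_zero.1 (h0 _ h5))

theorem Cov.psl [Finite S] [IsSimpleGroup S] (h : Cov f) (hp : PCA X) (hS : ¬ IsMulCommutative S) :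
    ∃ (F : Type) (_ : Field F) (_ : Fintype F), 4 ≤ Fintype.card F ∧
      Nonempty (S ≃* Matrix.ProjectiveSpecialLinearGroup (Fin 2) F) := by
  rcases Exc.twoNil_list hS h.pnil with (⟨F, _, _, n, h1, h2, e⟩ | ⟨F, _, _, m, _, ⟨e⟩⟩ | ⟨F, _, _, k, h1, h2, e⟩ |
    ⟨F, _, _, h1, ⟨e⟩⟩) | ⟨F, _, _, h1, h2, e⟩ | ⟨⟨e⟩⟩
  · exact ⟨F, _, _, h2 ▸ Nat.pow_le_pow_right two_pos h1, e⟩
  · exact (h.equiv e).not_sz.elim
  · have := Nat.pow_le_pow_right two_pos h1
    exact ⟨F, _, _, by omega, e⟩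
  · exact ((h.equiv e).not_psl3 h1).elim
  · exact ⟨F, _, _, h2, e⟩
  · exact ((h.equiv e).not_alt hp).elim

end
end Cfsg.Lib.MinCA
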