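import Cfsg.Agent.Lib.MinCA.M2
import Cfsg.Agent.Lib.MinCA.M3
import Cfsg.Agent.Lib.Exc.AC2
import Cfsg.Agent.S3188

/-! Minimal non-CA groups, IV: reduction to `PSL₂(q)`. -/

set_option autoImplicit false
set_option linter.unusedSectionVars false

namespace Cfsg.Lib.MinCA
open Subgroup Cfsg.Lib.Core Cfsg.Lib.Transfer Cfsg.Lib.Invol
open scoped commutatorElement

universe u
variable {G : Type u} [Group G] [Finite G] {x : G}

theorem solv_der {N : Subgroup G} (h : Group.IsSolvable (⁅N, N⁆ : Subgroup G)) : Group.IsSolvable N := by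
  have : ((⁅N, N⁆ : Subgroup G).subgroupOf N).Normal := (normal_subgroupOf_iff_le_normalizer (commutator_le.2 fun a ha b hb =>
    mul_mem (mul_mem (mul_mem ha hb) (inv_mem ha)) (inv_mem hb))).2 (fun n hn => mem_normalizer_of_cj_le (by rw [cj_commutator, cj_eq_of_mem hn]))
  have := isSolvable_subgroupOf ⁅N, N⁆ N
  have : Group.IsSolvable (N ⧸ (⁅N, N⁆ : Subgroup G).subgroupOf N) := Group.isSolvable_of_comm fun a b => by
    obtain ⟨a, rfl⟩ := QuotientGroup.mk_surjective a
    obtain ⟨b, rfl⟩ := QuotientGroup.mk_surjective b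
    rw [← QuotientGroup.mk_mul, ← QuotientGroup.mk_mul, QuotientGroup.eq]
    simpa [mem_subgroupOf, commutatorElement_def, mul_assoc] using commutator_mem_commutator (inv_mem b.2) (inv_mem a.2)
  exact isSolvable_of_normal_of_quotient ((⁅N, N⁆ : Subgroup G).subgroupOf N)

theorem three {L K : Subgroup G} (h : ⁅L, K⁆ ≤ center G) : ⁅L, L⁆ ≤ centralizer (K : Set G) := by
  have h1 : ⁅⁅L, K⁆, L⁆ = ⊥ := commutator_eq_bot_iff_le_centralizer.2 (h.trans (center_le_centralizer _))
  exact commutator_eq_bot_iff_le_centralizer.1 (commutator_commutator_eq_bot_of_rotate h1 (commutator_comm L K ▸ h1))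

theorem PCA.faith (h : PCA G) (N : Subgroup G) [N.Normal] (hN : ¬ Group.IsSolvable N) (g : G)
    (hg : ∀ n ∈ N, g * n * g⁻¹ * n⁻¹ ∈ center G) : g ∈ center G := by
  let f := QuotientGroup.mk' (center G)
  have h1 : ⁅N, (centralizer (N.map f : Set (G ⧸ center G))).comap f⁆ ≤ center G := commutator_le.2 fun n hn k hk =>
    (QuotientGroup.eq_one_iff _).1 (show f _ = 1 by
      rw [map_commutatorElement, commutatorElement_eq_one_iff_mul_comm]; exact hk _ ⟨n, hn, rfl⟩)
  refine h.cent ⁅N, N⁆ (fun e => hN (solv_der e)) fun n hn => (three h1 hn g ?_).symm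
  rintro _ ⟨m, hm, rfl⟩
  have : f ⁅g, m⁆ = 1 := (QuotientGroup.eq_one_iff _).2 (hg m hm)
  rw [map_commutatorElement, commutatorElement_eq_one_iff_mul_comm] at this
  exact this.symm

theorem PCA.rad' (h : PCA G) (hG : ¬ Group.IsSolvable G) (hx : Bad x) {N K : Subgroup G} [N.Normal] (h1 : K ≤ N)
    (h2 : N ≤ normalizer (K : Set G)) (hK : Group.IsSolvable K) : K ≤ center G := by
  have := solvableRadical_normal G
  have := isSolvable_solvableRadical G
  exact (le_solvableRadical_of_isSubnormal (.step K N h1 (Normal.isSubnormal ‹_›)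
    ((normal_subgroupOf_iff_le_normalizer h1).2 h2)) hK).trans (h.rad hG hx _)

theorem PCA.minimal (h : PCA G) (hG : ¬ Group.IsSolvable G) (hx : Bad x) {N : Subgroup G} [N.Normal] (hT : N ≠ ⊤)
    (hN : ¬ Group.IsSolvable N) (hm : ∀ K : Subgroup G, K.Normal → center G ≤ K → K ≤ N → ¬ Group.IsSolvable K → N ≤ K)
    (K : Subgroup G) (h0 : center G ≤ K) (h1 : K ≤ N) (h2 : N ≤ normalizer (K : Set G)) (hK : ¬ Group.IsSolvable K) :
    N ≤ K := by
  induction K using WellFoundedLT.induction with | _ K ih => ?_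
  by_cases hn : ∀ g, cj g K ≤ K
  · exact hm K ⟨fun n hn' g => cj_le_iff.1 (hn g) n hn'⟩ h0 h1 hK
  obtain ⟨g, hg⟩ := not_forall.1 hn
  have hg' : ¬ K ≤ cj g K := fun e => hg (eq_of_le_of_card_ge e (card_cj g K).le).ge
  have a0 : center G ≤ cj g K := fun z hz => mem_cj.2 (h0 (by
    simpa using (inferInstance : (center G).Normal).conj_mem z hz g⁻¹))
  have a1 : cj g K ≤ N := (cj_mono g h1).trans (cj_eq_of_normal g N).le
  have a2 : N ≤ normalizer (cj g K : Set G) := by
    rw [← cj_normalizer, ← cj_eq_of_normal g N]; exact cj_mono g h2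
  by_cases hs : Group.IsSolvable (K ⊓ cj g K : Subgroup G)
  · have h3 : ⁅cj g K, K⁆ ≤ center G := (commutator_le.2 fun a ha b hb => mem_inf.2 ⟨by
        simpa [commutatorElement_def, mul_assoc] using mul_mem (Transfer.conj_mem_of_mem_normalizer (h2 (a1 ha)) hb) (inv_mem hb),
        by simpa [commutatorElement_def, mul_assoc] using
          mul_mem ha (Transfer.conj_mem_of_mem_normalizer (a2 (h1 hb)) (inv_mem ha))⟩).trans
      (h.rad' hG hx (inf_le_left.trans h1) ((le_inf h2 a2).trans (inf_normalizer_le_normalizer_inf)) hs)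
    obtain ⟨a, ha, b, hb, hab⟩ : ∃ a ∈ K, ∃ b ∈ K, ¬ Commute a b := by
      by_contra! e
      exact hK (solv_comm e)
    have h4 : ⁅cj g K, cj g K⁆ ≤ center G := fun y hy => h.cent N hN fun n hn => mem_cent.1 (h N hT y
      (commutator_le.2 (fun a ha b hb => mul_mem (mul_mem (mul_mem (a1 ha) (a1 hb)) (inv_mem (a1 ha))) (inv_mem (a1 hb))) hy)
      a (h1 ha) b (h1 hb) (three h3 hy a ha) (three h3 hy b hb) hab hn)
    have := solv_center (G := G)
    have := solv_der (isSolvable_of_le h4)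
    have := isSolvable_map (cj g K) (MulAut.conj g⁻¹).toMonoidHom
    rw [← cj_def, cj_inv_cj] at this
    exact absurd this hK
  · exact (ih _ (inf_lt_left.2 hg') (le_inf h0 a0) (inf_le_left.trans h1)
      ((le_inf h2 a2).trans inf_normalizer_le_normalizer_inf) hs).trans inf_le_left

theorem simple_quot {Z : Subgroup G} [Z.Normal] (hG : ¬ Group.IsSolvable G) (hZ : Z ≤ center G)
    (h : ∀ K : Subgroup G, K.Normal → Z ≤ K → K ≤ Z ∨ K = ⊤) :
    IsSimpleGroup (G ⧸ Z) ∧ ¬ IsMulCommutative (G ⧸ Z) := by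
  have := solv_center (G := G)
  have : Group.IsSolvable Z := isSolvable_of_le hZ
  have h1 : ¬ IsMulCommutative (G ⧸ Z) := fun e =>
    have := Group.isSolvable_of_comm e.is_comm.comm
    hG (isSolvable_of_normal_of_quotient Z)
  have : Nontrivial (G ⧸ Z) := not_subsingleton_iff_nontrivial.1 fun e => h1 ⟨⟨fun _ _ => Subsingleton.elim _ _⟩⟩
  refine ⟨⟨fun K _ => ?_⟩, h1⟩
  rw [← map_comap_eq_self_of_surjective (QuotientGroup.mk'_surjective Z) K]
  rcases h (K.comap (QuotientGroup.mk' Z)) inferInstance (fun z hz => by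
    rw [mem_comap, QuotientGroup.mk'_apply Z z, (QuotientGroup.eq_one_iff z).2 hz]; exact one_mem _) with e | e
  · exact Or.inl (by rwa [Subgroup.map_eq_bot_iff, QuotientGroup.ker_mk'])
  · exact Or.inr (by rw [e, map_top_of_surjective _ (QuotientGroup.mk'_surjective Z)])

theorem Cov.ac {S : Type*} [Group S] {f : G →* S} (h : Cov f)
    (hab : ∀ P : Subgroup G, IsPGroup 2 P → ∀ a ∈ P, ∀ b ∈ P, Commute a b) : Exc.AC S := fun t ht => by
  have := fact_two
  have h1 : t ^ 2 = 1 := ht ▸ pow_orderOf_eq_one t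
  obtain ⟨t, k, rfl, hk⟩ := lift2 h.surj (s := t) (j := 1) h1
  have key : ∀ a, Commute (f a) (f t) → Commute a t := fun a ha => by
    obtain ⟨m, l, m1, m2⟩ := p_part Nat.prime_two a
    obtain ⟨i, rfl⟩ := Nat.not_even_iff_odd.1 fun e => m1 e.two_dvd
    have h2 := (comm_pow (fun g => (h.ker g).1) ha ((h.ker (t ^ 2)).1 (by rwa [map_pow]))).pow_left i
    set c := a ^ (2 * i + 1) with hc
    have hz : c * t * c⁻¹ * t⁻¹ ∈ center G := (h.ker _).1 (by
      rw [map_mul, map_mul, map_mul, hc, map_pow, (ha.pow_left _).eq, map_inv, map_inv, map_pow]; group)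
    set z := c * t * c⁻¹ * t⁻¹ with hz'
    have z1 : z ^ 2 ^ k = 1 := by
      have := (show Commute z t from (mem_center_iff.1 hz t).symm).mul_pow (2 ^ k)
      rwa [hz', inv_mul_cancel_right, conj_pow, hk, mul_one, mul_inv_cancel, mul_one, eq_comm] at this
    have z2 : ∀ y, y ∈ normalizer (zpowers z : Set G) := fun y => cent_norm (by
      rintro _ ⟨i, rfl⟩
      exact (show Commute z y from (mem_center_iff.1 hz y).symm).zpow_left i)
    have q1 := (isPGroup_zpowers hk).to_sup_of_normal_right' (isPGroup_zpowers z1) fun y _ => z2 y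
    have q2 := (isPGroup_zpowers m2).to_sup_of_normal_right' q1 (zpowers_le.2 (mem_normalizer_of_cj_le
      (cj_le_iff_le_cj_inv.2 (sup_le (zpowers_le.2 (mem_cj.2 ?_)) (zpowers_le.2 (mem_cj.2 ?_))))))
    · have h3 := hab _ q2 c (mem_sup_left (mem_zpowers c)) t (mem_sup_right (mem_sup_left (mem_zpowers t)))
      simpa [hc, pow_succ, pow_mul] using h2.inv_left.mul_left h3
    · rw [inv_inv, show c * t * c⁻¹ = z * t by rw [hz']; group]
      exact mul_mem (mem_sup_right (mem_zpowers z)) (mem_sup_left (mem_zpowers t))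
    · rw [inv_inv, mem_center_iff.1 hz c, mul_inv_cancel_right]
      exact mem_sup_right (mem_zpowers z)
  intro a b ha hb
  obtain ⟨a, rfl⟩ := h.surj a
  obtain ⟨b, rfl⟩ := h.surj b
  exact (h.comm hk (ne_one_of_two ht) (key a ha) (key b hb)).map f

theorem PCA.perfect (h : PCA G) (hG : ¬ Group.IsSolvable G) (hx : Bad x)
    (hN : ∀ N : Subgroup G, N.Normal → center G ≤ N → ¬ Group.IsSolvable N → N = ⊤) : commutator G = ⊤ := by
  by_contra hT
  have h1 : ¬ Group.IsSolvable (commutator G) := fun e => hG (solv_top (solv_der e))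
  have h2 := hN (commutator G ⊔ center G) inferInstance le_sup_right fun _ =>
    h1 (isSolvable_of_le (K := commutator G ⊔ center G) le_sup_left)
  have h3 : ∀ g, ∃ d ∈ commutator G, ∀ c, Commute c d ↔ Commute c g := fun g => by
    obtain ⟨d, hd, z, hz, rfl⟩ := mem_sup_of_normal_right.1 (h2.ge (mem_top g))
    have : ∀ c, Commute c z := mem_center_iff.1 hz
    exact ⟨d, hd, fun c => ⟨fun e => e.mul_right (this c), fun e => by simpa using e.mul_right (this c).inv_right⟩⟩
  obtain ⟨x1, a, b, x2, x3, x4⟩ := hx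
  obtain ⟨d, hd, d1⟩ := h3 x
  obtain ⟨a', ha, a1⟩ := h3 a
  obtain ⟨b', hb, b1⟩ := h3 b
  have := h.cent _ h1 fun n hn => mem_cent.1 (h _ hT d hd a' ha b' hb ((a1 d).2 ((d1 a).2 x2).symm).symm
    ((b1 d).2 ((d1 b).2 x3).symm).symm (fun e => x4 ((a1 b).1 ((b1 a').1 e).symm).symm) hn)
  exact x1 (mem_center_iff.2 fun c => (d1 c).1 (mem_center_iff.1 this c))

theorem PCA.inv_solv (h : PCA G) (hG : ¬ Group.IsSolvable G) (hx : Bad x) (hp : commutator G = ⊤)
    (hab : ∀ P : Subgroup G, IsPGroup 2 P → ∀ a ∈ P, ∀ b ∈ P, Commute a b) (t : G) (ht : orderOf t = 2) :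
    Group.IsSolvable (centralizer ({t} : Set G)) := by
  have := fact_two
  by_contra hs
  have t2 : t ^ 2 ^ 1 = 1 := by rw [pow_one, ← ht, pow_orderOf_eq_one]
  obtain ⟨P, hP⟩ := exists_sylowIn (p := 2) (centralizer ({t} : Set G))
  have t1 : t ∈ P := mem_syl hP t2 (mem_cent.2 (.refl t)) fun u hu => mem_cent.1 (hP.1 hu)
  obtain ⟨T, h1, hT⟩ := exists_sylowIn_ge (H := ⊤) hP.2 le_top
  obtain rfl := hP.eq_of_le hT.2 h1 fun y hy => mem_cent.2 (hab T hT.2 y hy t (h1 t1))
  have hc : IsMulCommutative T := ⟨⟨fun a b => Subtype.ext (hab T hT.2 a a.2 b b.2)⟩⟩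
  have h2 : t ∉ center G := fun e => by
    have h3 : ⁅T, T⁆ = ⊥ := commutator_eq_bot_iff_le_centralizer.2 fun a ha b hb => hab T hT.2 b hb a ha
    have := inf_commutator_inf_center_le T (by
      rw [h3, relIndex_bot_left, ← relIndex_top_right]; exact hT.coprime.symm) ⟨⟨t1, hp ▸ mem_top t⟩, e⟩
    exact ne_one_of_two ht (mem_bot.1 (h3 ▸ this))
  obtain ⟨a, ha, b, hb, e⟩ := exists_nc hP hs
  have h3 := h (normalizer T) (fun e => by
    have : T.Normal := normalizer_eq_top_iff.1 e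
    have := isSolvable_of_isPGroup Nat.prime_two hT.2
    exact h2 (h.rad hG hx T t1)) t (le_normalizer t1) a ha.2 b hb.2 (mem_cent.1 ha.1) (mem_cent.1 hb.1) e
  refine h2 (h.iso hG hx t2 fun g hg => ?_)
  obtain ⟨c, c1, c2⟩ := hP.exists_cj_le (isPGroup_zpowers (x := g * t * g⁻¹) (k := 1)
    (by rw [conj_pow, t2, mul_one, mul_inv_cancel])) (zpowers_le.2 (mem_cent.2 hg.symm))
  obtain ⟨v, v1, v2⟩ := hT.controls_of_comm hc t t1 (c * g) (mem_top _)
    (by simpa [mul_assoc] using cj_le_iff.1 c2 _ (mem_zpowers _))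
  rw [(mem_cent.1 (h3 v1.2)).eq, mul_inv_cancel_right] at v2
  calc g * t * g⁻¹ = c⁻¹ * (c * g * t * (c * g)⁻¹) * c := by group
    _ = t := by rw [← v2, (mem_cent.1 c1).inv_left.eq, inv_mul_cancel_right]

end Cfsg.Lib.MinCA
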