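import Cfsg.Agent.Lib.MinCA.M4

/-! Minimal non-CA groups, V: a nonsolvable minimal non-CA group is a `PSL₂(q)`. -/

set_option autoImplicit false
set_option linter.unusedSectionVars false

namespace Cfsg.Lib.MinCA
open Subgroup Cfsg.Lib.Core Cfsg.Lib.Transfer Cfsg.Lib.Invol

universe u

def B1 : Prop := ∀ {X : Type u} [Group X] [Finite X] {F : Type} [Field F] [Fintype F], 4 ≤ Fintype.card F →
  (X ⧸ center X ≃* Matrix.ProjectiveSpecialLinearGroup (Fin 2) F) → ∀ y : X, y ∉ center X →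
    (Even (Fintype.card F) ∨ y ^ 2 ∉ center X) → IsMulCommutative (centralizer ({y} : Set X))

def B2 : Prop := ∀ {X : Type u} [Group X] [Finite X] {F : Type} [Field F] [Fintype F], 4 ≤ Fintype.card F →
  (X ⧸ center X ≃* Matrix.ProjectiveSpecialLinearGroup (Fin 2) F) → commutator X = ⊤ →
    (∀ S : Sylow 2 X, IsMulCommutative S) → center X = ⊥

def B3 : Prop := ∀ {X : Type u} [Group X] [Finite X] {F : Type} [Field F] [Fintype F], 4 ≤ Fintype.card F →
  ∀ (N : Subgroup X) [N.Normal], center X ≤ N →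
    (N ⧸ (center X).subgroupOf N ≃* Matrix.ProjectiveSpecialLinearGroup (Fin 2) F) →
    (∀ g, (∀ n ∈ N, g * n * g⁻¹ * n⁻¹ ∈ center X) → g ∈ center X) →
    (∀ H : Subgroup X, H ≠ ⊤ → ∀ x : H, x ∉ center H → IsMulCommutative (centralizer ({x} : Set H))) →
    (Odd N.index ∨ (Even (Fintype.card F) ∧ ∀ S : Sylow 2 X, IsMulCommutative S)) → N = ⊤

variable {G : Type u} [Group G] [Finite G]

theorem main (b1 : B1.{u}) (b2 : B2.{u}) (b3 : B3.{u}) (hG : ¬ Group.IsSolvable G)
    (hn : ¬ ∀ x : G, x ∉ center G → IsMulCommutative (centralizer ({x} : Set G)))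
    (hCA : ∀ H : Subgroup G, H ≠ ⊤ → ∀ x : H, x ∉ center H → IsMulCommutative (centralizer ({x} : Set H))) :
    ∃ (F : Type) (_ : Field F) (_ : Fintype F), 4 ≤ Fintype.card F ∧
      Nonempty (G ≃* Matrix.ProjectiveSpecialLinearGroup (Fin 2) F) := by
  have h := pca_of hCA
  obtain ⟨x₀, hx₀⟩ : ∃ x : G, Bad x := by
    by_contra! e
    refine hn fun x hx => ⟨⟨fun a b => Subtype.ext ?_⟩⟩
    by_contra e'
    exact e x ⟨hx, a, b, mem_cent.1 a.2, mem_cent.1 b.2, e'⟩
  obtain ⟨x, p, k, hp, hx, x1, x2⟩ := hx₀.prime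
  have syl : (∀ P : Subgroup G, IsPGroup 2 P → ∀ a ∈ P, ∀ b ∈ P, Commute a b) → ∀ S : Sylow 2 G, IsMulCommutative S :=
    fun e S => ⟨⟨fun a b => Subtype.ext (e _ S.isPGroup' a a.2 b b.2)⟩⟩
  by_cases hN : ∀ N : Subgroup G, N.Normal → center G ≤ N → ¬ Group.IsSolvable N → N = ⊤
  swap
  · push Not at hN
    obtain ⟨N, _, hZ, hN, hT⟩ := hN
    have idx : ∀ K : Subgroup G, K.Normal → center G ≤ K → ¬ Group.IsSolvable K → K ≠ ⊤ → K.index = p :=
      fun K _ h1 h2 h3 => ((Nat.dvd_prime hp).1 (h.index_dvd hG hx hp x1 K h1 h2)).resolve_left fun e => h3 (index_eq_one.1 e)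
    have hc : ∀ g : N, g.1 ∈ center G ↔ g ∈ center N := fun g =>
      ⟨fun e => mem_center_iff.2 fun n => Subtype.ext (mem_center_iff.1 e n),
        fun e => h.cent N hN fun n hn => congrArg Subtype.val (mem_center_iff.1 e ⟨n, hn⟩)⟩
    obtain ⟨_, hS⟩ := simple_quot (Z := (center G).subgroupOf N) hN (fun g => (hc g).1) fun K _ hK => by
      have h1 : N ≤ normalizer (K.map N.subtype : Set G) := (normal_subgroupOf_iff_le_normalizer (map_subtype_le K)).1 (by
        rwa [subgroupOf, comap_map_eq_self_of_injective N.subtype_injective])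
      by_cases hs : Group.IsSolvable (K.map N.subtype)
      · exact Or.inl fun g hg => h.rad' hG hx (map_subtype_le K) h1 hs ⟨g, hg, rfl⟩
      · refine Or.inr (eq_top_iff.2 fun g _ => ?_)
        obtain ⟨g', h2, h3⟩ := h.minimal hG hx hT hN (fun L _ l1 l2 l3 => relIndex_eq_one.1 (by
          have := relIndex_mul_index l2
          rw [idx L ‹_› l1 l3 fun e => hT (top_le_iff.1 (e ▸ l2)), idx N ‹_› hZ hN hT] at this
          exact (mul_eq_right₀ hp.ne_zero).1 this)) _ (fun z hz => mem_map.2 ⟨⟨z, hZ hz⟩, hK hz, rfl⟩) (map_subtype_le K) h1 hs g.2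
        exact (Subtype.ext h3 : g' = g) ▸ h2
    have cov : Cov (QuotientGroup.mk' ((center G).subgroupOf N)) := ⟨QuotientGroup.mk'_surjective _,
      fun g => (QuotientGroup.eq_one_iff g).trans (hc g), fun t _ _ ⟨t1, a, b, t2, t3, t4⟩ =>
        t1 (mem_center_iff.2 fun n => Subtype.ext (mem_cent.1 (h N hT t t.2 a a.2 b b.2 (congrArg Subtype.val t2)
          (congrArg Subtype.val t3) (fun e => t4 (Subtype.ext e)) n.2)))⟩
    refine (hT ?_).elim
    rcases hp.eq_two_or_odd' with rfl | ho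
    · have hab := fun P => h.two_ab hG hx x2 (P := P)
      obtain ⟨F, _, _, n, h1, h2, ⟨e⟩⟩ := (cov.ac fun P hP a ha b hb => Subtype.ext
        (hab _ (hP.map N.subtype) a ⟨a, ha, rfl⟩ b ⟨b, hb, rfl⟩)).simple hS
        (FT.even_card_of_simple _ fun e => hS ⟨⟨e⟩⟩)
      exact b3 (h2 ▸ Nat.pow_le_pow_right two_pos h1) N hZ e (h.faith N hN) hCA
        (Or.inr ⟨h2 ▸ (Nat.even_pow.2 ⟨even_two, by omega⟩), syl hab⟩)
    · obtain ⟨F, _, _, h1, ⟨e⟩⟩ := cov.psl (h.sub N) hS
      exact b3 h1 N hZ e (h.faith N hN) hCA (Or.inl (idx N ‹_› hZ hN hT ▸ ho))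
  have hN' : ∀ K : Subgroup G, K.Normal → center G ≤ K → K ≤ center G ∨ K = ⊤ := fun K _ hK => by
    by_cases hs : Group.IsSolvable K
    · exact Or.inl (h.rad hG hx K)
    · exact Or.inr (hN K ‹_› hK hs)
  by_cases hb : ∀ (t : G) (k : ℕ), t ^ 2 ^ k = 1 → ¬ Bad t
  · obtain ⟨_, hS⟩ := simple_quot hG le_rfl hN'
    obtain ⟨F, _, _, h1, ⟨e⟩⟩ := Cov.psl ⟨QuotientGroup.mk'_surjective _, QuotientGroup.eq_one_iff, hb⟩ h hS
    rcases hp.eq_two_or_odd' with rfl | ⟨i, rfl⟩
    · exact (hb x k x2 hx).elim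
    obtain ⟨x3, a, b, h2, h3, h4⟩ := hx
    have := b1 h1 e x x3 (Or.inr fun e => x3 (by
      rwa [pow_succ, pow_mul, mul_mem_cancel_left (pow_mem e i)] at x1))
    exact (h4 (congrArg Subtype.val (this.is_comm.comm ⟨a, mem_cent.2 h2⟩ ⟨b, mem_cent.2 h3⟩))).elim
  push Not at hb
  obtain ⟨t, l, t1, ht⟩ := hb
  have hab := fun P => h.two_ab hG ht t1 (P := P)
  have hper := h.perfect hG hx hN
  obtain ⟨S⟩ : Nonempty (Sylow 2 G) := inferInstance
  obtain ⟨F, _, _, hF, N, _, ⟨e⟩, hC⟩ := (Agent.S3188.result S (syl hab S) (h.inv_solv hG hx hper hab)).resolve_left hG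
  have h4 : 4 ≤ Fintype.card F := by
    rcases hF with hF | ⟨n, h1, h2⟩
    exacts [by omega, h2 ▸ Nat.pow_le_pow_right two_pos h1]
  let f := QuotientGroup.mk' (oddCore G)
  have hO : oddCore G = center G := by
    have := FT.odd_order_solvable _ (odd_card_oddCore G)
    refine le_antisymm (h.rad hG hx _) fun z hz => (QuotientGroup.eq_one_iff z).1 (mem_bot.1 (hC.le fun y _ => ?_))
    obtain ⟨y, rfl⟩ := QuotientGroup.mk_surjective y
    exact congrArg f (mem_center_iff.1 hz y)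
  obtain rfl : N = ⊤ := by
    rw [← map_comap_eq_self_of_surjective (QuotientGroup.mk'_surjective _) N, hN (N.comap f) inferInstance (fun z hz => by
      rw [mem_comap, show f z = 1 from (QuotientGroup.eq_one_iff z).2 (hO ▸ hz)]; exact one_mem _) fun _ => ?_,
      map_top_of_surjective _ (QuotientGroup.mk'_surjective _)]
    have := isSolvable_map (N.comap f) f
    rw [map_comap_eq_self_of_surjective (QuotientGroup.mk'_surjective _)] at this
    exact Linear.not_isSolvable_PSL2 (Nat.card_eq_fintype_card (α := F) ▸ h4)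
      (Group.isSolvable_of_surjective (f := e.toMonoidHom) e.surjective)
  have e' := (QuotientGroup.quotientMulEquivOfEq hO.symm).trans (topEquiv.symm.trans e)
  exact ⟨F, _, _, h4, ⟨(QuotientGroup.quotientBot.symm.trans
    (QuotientGroup.quotientMulEquivOfEq (b2 h4 e' hper (syl hab)).symm)).trans e'⟩⟩

end Cfsg.Lib.MinCA
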