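import Cfsg.Agent.Lib.MinCA.M5
import Cfsg.Agent.Lib.MinCA.A

/-! Minimal non-CA groups, VI: the classification modulo the central extension lemmas. -/

set_option autoImplicit false

namespace Cfsg.Lib.MinCA
open Subgroup

universe u

theorem min_equiv {G G' : Type*} [Group G] [Group G'] (e : G ≃* G')
    (h : ¬ (∀ x : G, x ∉ center G → IsMulCommutative (centralizer ({x} : Set G))) ∧
      ∀ H : Subgroup G, H ≠ ⊤ → ∀ x : H, x ∉ center H → IsMulCommutative (centralizer ({x} : Set H))) :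
    ¬ (∀ x : G', x ∉ center G' → IsMulCommutative (centralizer ({x} : Set G'))) ∧
      ∀ H : Subgroup G', H ≠ ⊤ → ∀ x : H, x ∉ center H → IsMulCommutative (centralizer ({x} : Set H)) :=
  ⟨fun h1 => h.1 (PA.ca_iff.2 ((PA.ca_iff.1 h1).of_equiv e)), fun H hH => PA.ca_iff.2 ((PA.ca_iff.1
    (h.2 (H.map e.symm.toMonoidHom) fun h1 => hH (eq_top_iff.2 fun y _ => by
      obtain ⟨z, hz, h2⟩ := h1.ge (mem_top (e.symm y))
      exact e.symm.injective h2 ▸ hz))).of_equiv (e.symm.subgroupMap H))⟩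

theorem final (b1 : B1.{u}) (b2 : B2.{u}) (b3 : B3.{u}) {G : Type u} [Group G] [Finite G] :
    (¬ Group.IsSolvable G ∧ ¬ (∀ x : G, x ∉ Subgroup.center G → IsMulCommutative (Subgroup.centralizer ({x} : Set G))) ∧ ∀ H : Subgroup G, H ≠ ⊤ → (∀ x : H, x ∉ Subgroup.center H → IsMulCommutative (Subgroup.centralizer ({x} : Set H)))) ↔
      ∃ (F : Type) (_ : Field F) (_ : Fintype F), Nonempty (G ≃* Matrix.ProjectiveSpecialLinearGroup (Fin 2) F) ∧
        (((Fintype.card F).Prime ∧ 5 < Fintype.card F ∧ ¬ 16 ∣ Fintype.card F ^ 2 - 1) ∨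
         (∃ p : ℕ, p.Prime ∧ p ≠ 2 ∧ (Fintype.card F = 3 ^ p ∨ Fintype.card F = 5 ^ p))) := by
  constructor
  · rintro ⟨h1, h2, h3⟩
    obtain ⟨F, _, _, h4, ⟨e⟩⟩ := main b1 b2 b3 h1 h2 h3
    exact ⟨F, _, _, ⟨e⟩, (psl_iff h4).1 (min_equiv e ⟨h2, h3⟩)⟩
  · rintro ⟨F, _, _, ⟨e⟩, h⟩
    have h4 : 4 ≤ Fintype.card F := by
      rcases h with h | ⟨p, hp, -, h | h⟩
      · omega
      · exact h ▸ le_trans (by norm_num) (Nat.pow_le_pow_right (by norm_num) hp.two_le)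
      · exact h ▸ le_trans (by norm_num) (Nat.pow_le_pow_right (by norm_num) hp.two_le)
    exact ⟨fun _ => Linear.not_isSolvable_PSL2 (Nat.card_eq_fintype_card (α := F) ▸ h4)
      (Group.isSolvable_of_surjective (f := e.toMonoidHom) e.surjective), min_equiv e.symm ((psl_iff h4).2 h)⟩

end Cfsg.Lib.MinCA
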